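import Cfsg.Agent.FourGroupGW.MaxCent.OnePrime
import Cfsg.Agent.FourGroupGW.LocalLc

/-!
Four-group problem, piece D: `C(t)` is a maximal subgroup.
-/

set_option autoImplicit false

namespace Cfsg.Lib.GW.MaxCent

universe u

variable {G : Type u} [Group G] [Finite G] (F : Frame G)

/-- Piece D, with the core fact as a hypothesis. -/
theorem maximal_of_coreFixed (hm : Minimal G) (hB : F.NonFusingSpec) (hT : F.TopSpec) (hO : F.OddSpec)
    (hC : F.CompSpec) (hcb : F.CharBound)
    (hcf : ∀ p : ℕ, p.Prime → p ≠ 2 → NoZJAt F p → CoreFixedAt F p) : F.Maximal :=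
  maximal_of_onePrime F hm hB hT hO hC hcb (onePrime_of_coreFixed F hm hB hcf)

/-- Piece D. -/
theorem maximal_of_specs (hm : Minimal G) (hB : F.NonFusingSpec) (hT : F.TopSpec) (hO : F.OddSpec)
    (hC : F.CompSpec) (hcb : F.CharBound) : F.Maximal :=
  maximal_of_coreFixed F hm hB hT hO hC hcb fun p hp hp2 h =>
    haveI := Fact.mk hp
    F.core_fixed_of hm hB hO hp2 h

end Cfsg.Lib.GW.MaxCent
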