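import Cfsg.Agent.FourGroupGW.MaxCent.Data
import Cfsg.Agent.OddLocal.UniquenessBase

/-!
Four-group problem, Theorem A: a non-fusing maximal subgroup over `C(t)` with trivial 2-core has a single prime in
its Fitting subgroup.
-/

set_option autoImplicit false
set_option linter.unusedSectionVars false
set_option linter.style.haveILetI false

namespace Cfsg.Lib.GW.MaxCent

open Subgroup
open Cfsg.Lib.Misc.BenderPair (cr cr_le cr_normalizer isPGroup_cr)
open Cfsg.Lib.Misc.BenderLeads (cr_le_fitting cr_comm)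
open Cfsg.Lib.Coprime (conjMap)
open scoped commutatorElement

universe v

variable {G : Type v} [Group G] [Finite G] {M : Subgroup G} {t u σ : G}

/-- The components of a maximal subgroup over the four-group are killed by a moved element of a core of `M`. -/
def LayerHyp (M : Subgroup G) (t u σ : G) : Prop :=
  ∀ H : Subgroup G, IsCoatom H → t ∈ H → u ∈ H → ∀ q : ℕ, q.Prime →
    (∀ c ∈ cr q M, Commute c u → σ⁻¹ * c * σ ∈ H) → (∀ c ∈ cr q M, Commute c (t * u) → σ * c * σ⁻¹ ∈ H) →
    ∀ d ∈ cr q M, d ∈ H → d ≠ 1 →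
    t * d * t = d⁻¹ → (Commute d u ∨ Commute d (t * u)) → Cfsg.layer H = ⊥

theorem mem_normalizer_closure_of_conj {S : Set G} {g : G} (h1 : ∀ x ∈ S, g * x * g⁻¹ ∈ closure S)
    (h2 : ∀ x ∈ S, g⁻¹ * x * g ∈ closure S) : g ∈ normalizer (closure S : Set G) := by
  refine Cfsg.Lib.Coprime.mem_normalizer_of_conj_mem (fun x hx => ?_) (fun x hx => ?_)
  · induction hx using closure_induction with
    | mem x hx => exact h1 x hx
    | one => simp
    | mul a b _ _ ha hb => rw [← conj_mul]; exact mul_mem ha hb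
    | inv a _ ha => rw [← conj_inv]; exact inv_mem ha
  · induction hx using closure_induction with
    | mem x hx => exact h2 x hx
    | one => simp
    | mul a b _ _ ha hb =>
      rw [show g⁻¹ * (a * b) * g = g⁻¹ * a * g * (g⁻¹ * b * g) by group]
      exact mul_mem ha hb
    | inv a _ ha =>
      rw [show g⁻¹ * a⁻¹ * g = (g⁻¹ * a * g)⁻¹ by group]
      exact inv_mem ha

theorem centralizer_self_fitting {K : Subgroup G} (hK : Group.IsSolvable K) {x : G} (hx : x ∈ K)
    (h : ∀ q : ℕ, q.Prime → ∀ a ∈ cr q K, Commute a x) : x ∈ (Cfsg.fittingSubgroup K).map K.subtype := by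
  haveI := hK
  refine ⟨⟨x, hx⟩, Cfsg.Lib.Coprime.centralizer_fitting_le (zpowers_le.1
    (Cfsg.Lib.Misc.BenderPair.fitting_le_centralizer_iff (X := zpowers (⟨x, hx⟩ : K)) fun q hq => ?_)), rfl⟩
  rw [zpowers_le, mem_centralizer_iff]
  intro y hy
  exact Subtype.ext (h q hq _ ⟨y, hy, rfl⟩).eq

theorem mem_cr_of_fitting {K : Subgroup G} {x : G} {q : ℕ} [Fact q.Prime] {V : Subgroup G} (hV : IsPGroup q V)
    (hx : x ∈ (Cfsg.fittingSubgroup K).map K.subtype) (hxV : x ∈ V) : x ∈ cr q K :=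
  Cfsg.Lib.Misc.BenderLeads.le_cr_of_le_fitting (zpowers_le.2 hx)
    (hV.to_le (zpowers_le.2 hxV)) (mem_zpowers x)

namespace Data

variable (D : Data M t u σ)
include D

/-- some core is moved by `t` -/
theorem exists_moved : ∃ p : ℕ, p.Prime ∧ ∃ v ∈ cr p M, ¬ Commute v t := by
  by_contra h
  push Not at h
  haveI := Fact.mk Nat.prime_two
  have hF := centralizer_self_fitting D.sol D.t_mem fun q hq a ha => h q hq a ha
  have hT : IsPGroup 2 (zpowers t) := IsPGroup.of_card (n := 1) (by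
    rw [Nat.card_zpowers, pow_one]
    exact orderOf_eq_prime (by rw [pow_two, D.tt]) D.tne)
  have := mem_cr_of_fitting hT hF (mem_zpowers t)
  rw [D.two, mem_bot] at this
  exact D.tne this

/-- the elements `σ⁻¹ c σ`, `c` in a core of `M` fixed by `u`, lie in the subgroup generated by three kinds -/
theorem conj_mem {H : Subgroup G} {q : ℕ} [Fact q.Prime] (h2 : q ≠ 2)
    (hW : ∀ c : G, Commute c t → Commute c u → c ∈ H)
    (hq : ∀ c ∈ cr q M, Commute c t → c ∈ H) {c : G} (hc : c ∈ cr q M) (hcu : Commute c u) :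
    σ⁻¹ * c * σ ∈ H := by
  obtain ⟨c0, i, hc0, hi, hc0t, hinv, rfl, hz⟩ :=
    exists_split (odd_card_of_isPGroup h2 (isPGroup_cr M)) D.tt (cr_normalizer q M D.t_mem) hc
  obtain ⟨hc0u, hiu⟩ := hz u hcu D.comm
  have hconv : ∀ x y : G, Commute x y → Commute (σ⁻¹ * x * σ) (σ⁻¹ * y * σ) := fun x y h => by
    show σ⁻¹ * x * σ * (σ⁻¹ * y * σ) = σ⁻¹ * y * σ * (σ⁻¹ * x * σ)
    calc σ⁻¹ * x * σ * (σ⁻¹ * y * σ) = σ⁻¹ * (x * y) * σ := by group
      _ = σ⁻¹ * (y * x) * σ := by rw [h.eq]
      _ = _ := by group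
  rw [show σ⁻¹ * (c0 * i) * σ = σ⁻¹ * c0 * σ * (σ⁻¹ * i * σ) by group]
  have ht' : Commute (σ⁻¹ * i * σ) t := by
    have := hconv i u hiu
    rwa [D.inv_conj_u] at this
  refine mul_mem (hW _ ?_ ?_) (hq _ ?_ ht')
  · have := hconv c0 u hc0u
    rwa [D.inv_conj_u] at this
  · have h1 := hconv c0 u hc0u
    rw [D.inv_conj_u] at h1
    have h3 := hconv c0 t hc0t
    rw [D.inv_conj_t] at h3
    have h4 := h1.mul_right h3
    rwa [← mul_assoc, D.tt, one_mul] at h4
  · have h := D.mem_cr_two hi hinv hiu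
    rw [cr_conjMap, mem_conjMap_iff] at h
    exact h

/-- THEOREM A, for a fixed side. -/
theorem false_of_side [IsSimpleGroup G] (hna : ¬ IsMulCommutative G) (hlay : LayerHyp M t u σ)
    {p p' : ℕ} [Fact p.Prime] (hp' : p'.Prime) (hpp : p' ≠ p) (hp'M : cr p' M ≠ ⊥) {N : Subgroup G}
    (hN : N ≤ cr p M) (hNn : M ≤ normalizer (N : Set G))
    (hmin : ∀ v ∈ ⁅N, cr p M⁆, Commute v t) {d₀ : G} (hd₀ : d₀ ∈ N) (hd₀1 : d₀ ≠ 1)
    (hd₀t : t * d₀ * t = d₀⁻¹) (hd₀u : Commute d₀ u) : False := by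
  haveI := Fact.mk hp'
  set R := cr p M with hR
  have hp2 : p ≠ 2 := by
    rintro rfl
    have h := hN hd₀
    rw [hR, D.two, mem_bot] at h
    exact hd₀1 h
  have hpM : R ≠ ⊥ := fun e => hd₀1 (mem_bot.1 (e ▸ hN hd₀))
  set S : Set G := {x | x ∈ N ∧ t * x * t = x⁻¹ ∧ Commute x u} with hS
  set A := closure S with hA
  have hAN : A ≤ N := (closure_le _).2 fun x hx => hx.1
  have hA1 : A ≠ ⊥ := fun e => hd₀1 (mem_bot.1 (e ▸ subset_closure ⟨hd₀, hd₀t, hd₀u⟩))
  set M2 := conjMap σ M with hM2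
  have hAR2 : A ≤ cr p M2 := (closure_le _).2 fun x hx => D.mem_cr_two (hN hx.1) hx.2.1 hx.2.2
  -- what normalises `A`
  have hcent : ∀ g : G, (∀ x ∈ A, Commute x g) → g ∈ normalizer (A : Set G) := fun g hg =>
    centralizer_le_normalizer _ (mem_centralizer_iff.2 fun x hx => (hg x hx).eq)
  have hW : ∀ c : G, Commute c t → Commute c u → c ∈ normalizer (A : Set G) := by
    intro c hct hcu
    have key : ∀ g : G, Commute g t → Commute g u → ∀ x ∈ S, g * x * g⁻¹ ∈ S := by
      intro g hgt hgu x hx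
      refine ⟨(mem_normalizer_iff.1 (hNn (D.mem_of_comm hgt)) x).1 hx.1, ?_, ?_⟩
      · calc t * (g * x * g⁻¹) * t = (t * g) * x * (g⁻¹ * t) := by group
          _ = g * (t * x * t) * g⁻¹ := by rw [← hgt.eq, hgt.inv_left.eq]; group
          _ = (g * x * g⁻¹)⁻¹ := by rw [hx.2.1]; group
      · show g * x * g⁻¹ * u = u * (g * x * g⁻¹)
        calc g * x * g⁻¹ * u = g * (x * u) * g⁻¹ := by
              rw [mul_assoc, hgu.inv_left.eq]; group
          _ = g * u * x * g⁻¹ := by rw [hx.2.2.eq]; group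
          _ = u * (g * x * g⁻¹) := by rw [hgu.eq]; group
    refine mem_normalizer_closure_of_conj (fun x hx => subset_closure (key c hct hcu x hx)) fun x hx => ?_
    have := subset_closure (k := S) (key c⁻¹ hct.inv_left hcu.inv_left x hx)
    rwa [inv_inv] at this
  have hRt : ∀ c ∈ R, Commute c t → c ∈ normalizer (A : Set G) := by
    intro c hc hct
    refine hcent c fun x hx => ?_
    have : A ≤ centralizer {c} := (closure_le _).2 fun x hx => by
      rw [SetLike.mem_coe, mem_centralizer_singleton_iff]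
      have hg : ⁅x, c⁆ ∈ ⁅N, R⁆ := commutator_mem_commutator hx.1 hc
      have hgt := hmin _ hg
      have htc : t * c * t = c := by rw [← hct.eq, mul_assoc, D.tt, mul_one]
      have hti : t⁻¹ = t := inv_eq_of_mul_eq_one_left D.tt
      have htc' : t * c⁻¹ * t = c⁻¹ := by
        calc t * c⁻¹ * t = (t⁻¹ * c * t⁻¹)⁻¹ := by group
          _ = c⁻¹ := by rw [hti, htc]
      have htx' : t * x⁻¹ * t = x := by
        calc t * x⁻¹ * t = (t⁻¹ * x * t⁻¹)⁻¹ := by group
          _ = x := by rw [hti, hx.2.1, inv_inv]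
      -- `g = ⁅x, c⁆` is fixed by `t`, so also equals `⁅x⁻¹, c⁆`
      have h1 : ⁅x⁻¹, c⁆ = ⁅x, c⁆ := by
        calc ⁅x⁻¹, c⁆ = t * ⁅x, c⁆ * t := by
              rw [commutatorElement_def, commutatorElement_def, invol_conj_mul D.tt, invol_conj_mul D.tt,
                invol_conj_mul D.tt, hx.2.1, htc, htx', htc', inv_inv]
          _ = ⁅x, c⁆ := by rw [← hgt.eq, mul_assoc, D.tt, mul_one]
      -- and `x` commutes with it
      have h2 : Commute x ⁅x, c⁆ := by
        set g := ⁅x, c⁆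
        have hxg : t * (x * g * x⁻¹) * t = x * g * x⁻¹ := by
          have hgN : g ∈ ⁅N, R⁆ := hg
          have hxn : x ∈ normalizer ((⁅N, R⁆ : Subgroup G) : Set G) :=
            Cfsg.Lib.Coprime.le_normalizer_commutator_left R N hx.1
          rw [← (hmin _ ((mem_normalizer_iff.1 hxn g).1 hgN)).eq, mul_assoc, D.tt, mul_one]
        have hgg : t * g * t = g := by rw [← hgt.eq, mul_assoc, D.tt, mul_one]
        have hxx : x⁻¹ * g * x = x * g * x⁻¹ := by
          rw [← hxg, invol_conj_mul D.tt, invol_conj_mul D.tt, hx.2.1, hgg, htx']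
        refine commute_of_sq (odd_orderOf_of_mem (odd_card_of_isPGroup hp2 (isPGroup_cr M)) (hN hx.1)) ?_
        show x * x * g = g * (x * x)
        calc x * x * g = x * (x * g * x⁻¹) * x := by group
          _ = x * (x⁻¹ * g * x) * x := by rw [hxx]
          _ = g * (x * x) := by group
      have h3 : ⁅x, c⁆ * ⁅x, c⁆ = 1 := by
        have h4 : x⁻¹ * ⁅x, c⁆ * x * ⁅x⁻¹, c⁆ = 1 := by
          rw [commutatorElement_def, commutatorElement_def]; group
        rw [h1] at h4
        rw [show x⁻¹ * ⁅x, c⁆ * x = ⁅x, c⁆ by rw [mul_assoc, ← h2.eq, inv_mul_cancel_left]] at h4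
        exact h4
      have h5 := eq_one_of_mul_self (odd_orderOf_of_mem (odd_card_of_isPGroup hp2 (isPGroup_cr M))
        ((Cfsg.Lib.Coprime.commutator_le_of_le_normalizer (le_normalizer.trans' le_rfl)
          : ⁅R, R⁆ ≤ R) (commutator_mono hN le_rfl hg))) h3
      rw [commutatorElement_def, mul_inv_eq_one, mul_inv_eq_iff_eq_mul] at h5
      exact h5
    exact mem_centralizer_singleton_iff.1 (this hx)
  have hFn : ∀ q : ℕ, q.Prime → q ≠ p → cr q M ≤ normalizer (A : Set G) := by
    intro q hq hqp c hc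
    haveI := Fact.mk hq
    exact hcent c fun x hx => mem_centralizer_iff.1 (cr_comm hqp M hc) x (hN (hAN hx))
  have hAn : normalizer (A : Set G) ≠ ⊤ := by
    intro e
    rcases IsSimpleGroup.eq_bot_or_eq_top_of_normal A (normalizer_eq_top_iff.1 e) with h | h
    · exact hA1 h
    · exact D.coatom.1 (top_le_iff.1 (h ▸ hAN.trans (hN.trans (cr_le p M))))
  obtain ⟨H, hH, hAH⟩ := Cfsg.Lib.OddLocal.Uniqueness.exists_coatom_ge hAn
  have htH : t ∈ H := hAH (hW t (Commute.refl t) D.comm)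
  have huH : u ∈ H := hAH (hW u D.comm.symm (Commute.refl u))
  -- the two leads
  have hM2c : IsCoatom M2 := by
    refine ⟨fun e => D.coatom.1 ?_, fun X hX => ?_⟩
    · have := congrArg (conjMap σ⁻¹) e
      rwa [hM2, Cfsg.Lib.Coprime.conjMap_inv_conjMap, conjMap, map_top_of_surjective _
        (MulAut.conj σ⁻¹).surjective] at this
    · have h1 : M < conjMap σ⁻¹ X := by
        have h2 := Cfsg.Lib.Coprime.conjMap_mono (g := σ⁻¹) hX.le
        rw [hM2, Cfsg.Lib.Coprime.conjMap_inv_conjMap] at h2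
        refine lt_of_le_of_ne h2 fun e => hX.ne ?_
        rw [hM2, e, Cfsg.Lib.Coprime.conjMap_conjMap_inv]
      have h3 := congrArg (conjMap σ) (D.coatom.2 _ h1)
      rwa [Cfsg.Lib.Coprime.conjMap_conjMap_inv, conjMap, map_top_of_surjective _
        (MulAut.conj σ).surjective] at h3
  have hQ1 : A ≤ (Cfsg.fittingSubgroup M).map M.subtype := hAN.trans (hN.trans (cr_le_fitting Fact.out M))
  have hL1 : (Cfsg.generalizedFittingSubgroup M).map M.subtype ⊓ normalizer (A : Set G) ≤ H :=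
    inf_le_right.trans hAH
  have hQ2 : A ≤ (Cfsg.fittingSubgroup M2).map M2.subtype := hAR2.trans (cr_le_fitting Fact.out M2)
  have hL2 : (Cfsg.generalizedFittingSubgroup M2).map M2.subtype ⊓ normalizer (A : Set G) ≤ H :=
    inf_le_right.trans hAH
  have hne2 : ∀ (q : ℕ) [Fact q.Prime], cr q M ≠ ⊥ → cr q M2 ≠ ⊥ := fun q _ h e => h (by
    rw [hM2, cr_conjMap] at e
    exact (map_eq_bot_iff_of_injective _ (MulAut.conj σ).injective).1 e)
  -- the cores of `H`
  have hHcr : ∀ r : ℕ, r.Prime → cr r H ≤ M ⊓ M2 := by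
    intro r hr
    haveI := Fact.mk hr
    by_cases hrM : cr r M = ⊥
    · have hrM2 : cr r M2 = ⊥ := by rw [hM2, cr_conjMap, hrM]; exact Subgroup.map_bot _
      have hE1 := Cfsg.Lib.Misc.BenderLeads.cr_inf_eq_bot hQ1 hL1 hrM
      have hE2 := Cfsg.Lib.Misc.BenderLeads.cr_inf_eq_bot hQ2 hL2 hrM2
      refine le_of_eq_of_le (b := ⊥) ?_ bot_le
      rw [eq_bot_iff]
      have hr2 : r ≠ 2 ∨ cr r H = ⊥ := by
        rcases eq_or_ne r 2 with rfl | h
        · right
          by_contra hne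
          -- an involution acting on a non-trivial 2-group fixes a non-trivial element
          have hT : IsPGroup 2 (zpowers t) := IsPGroup.of_card (n := 1) (by
            rw [Nat.card_zpowers, pow_one]
            exact orderOf_eq_prime (by rw [pow_two, D.tt]) D.tne)
          set E := cr 2 H
          set P := E ⊔ zpowers t
          have hP : IsPGroup 2 P := (isPGroup_cr H).to_sup_of_normal_left' hT
            (zpowers_le.2 (cr_normalizer 2 H htH))
          haveI : Group.IsNilpotent P := hP.isNilpotent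
          have hlt : ⁅E, P⁆ < E :=
            Cfsg.Lib.Coprime.commutator_lt_of_isNilpotent le_sup_left hne (sup_le le_normalizer
              (zpowers_le.2 (cr_normalizer 2 H htH)))
          -- iterate down to a non-trivial subgroup centralised by `t`
          obtain ⟨K, ⟨hKE, hKP, hK1⟩, hKmin⟩ := WellFounded.has_min wellFounded_lt
            {K : Subgroup G | K ≤ E ∧ P ≤ normalizer (K : Set G) ∧ K ≠ ⊥}
            ⟨E, le_rfl, sup_le le_normalizer (zpowers_le.2 (cr_normalizer 2 H htH)), hne⟩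
          have hK2 : ⁅K, P⁆ = ⊥ := by
            by_contra h3
            exact hKmin ⁅K, P⁆ ⟨(Cfsg.Lib.Coprime.commutator_le_of_le_normalizer hKP).trans hKE,
              Cfsg.Lib.Coprime.le_normalizer_commutator_right P K, h3⟩
              (Cfsg.Lib.Coprime.commutator_lt_of_isNilpotent (hKE.trans le_sup_left) hK1 hKP)
          refine hK1 (le_bot_iff.1 fun k hk => ?_)
          rw [← hE1]
          refine ⟨hKE hk, D.mem_of_comm ?_⟩
          exact (mem_centralizer_iff.1 ((commutator_eq_bot_iff_le_centralizer.1 hK2) hk) t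
            (mem_sup_right (mem_zpowers t))).symm
        · exact Or.inl h
      rcases hr2 with hr2 | hr2
      swap
      · rw [hr2]
      intro e he
      rw [mem_bot]
      set E := cr r H
      have hEo := odd_card_of_isPGroup hr2 (isPGroup_cr (p := r) H)
      -- `t` and `u` invert `E`
      have hinv : ∀ s : G, s * s = 1 → s ∈ H → (∀ f ∈ E, Commute f s → f = 1) → s * e * s = e⁻¹ := by
        intro s hs hsH hfix
        obtain ⟨c, i, hc, -, hcs, hi, rfl, -⟩ := exists_split hEo hs (cr_normalizer r H hsH) he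
        rw [hfix c hc hcs, one_mul]
        exact hi
      have het : t * e * t = e⁻¹ := hinv t D.tt htH fun f hf h =>
        mem_bot.1 (hE1 ▸ (⟨hf, D.mem_of_comm h⟩ : f ∈ E ⊓ M))
      have heu : u * e * u = e⁻¹ := hinv u D.uu huH fun f hf h =>
        mem_bot.1 (hE2 ▸ (⟨hf, D.mem_two h⟩ : f ∈ E ⊓ M2))
      have hetu : Commute e (t * u) := by
        have h : (t * u) * e * (t * u) = e := by
          calc (t * u) * e * (t * u) = t * u * e * (u * t) := by rw [D.comm]
            _ = t * (u * e * u) * t := by group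
            _ = e := by
              rw [heu, show t * e⁻¹ * t = (t⁻¹ * e * t⁻¹)⁻¹ by group, inv_eq_of_mul_eq_one_left D.tt, het,
                inv_inv]
        have htu2 : (t * u) * (t * u) = 1 := D.swap.uu
        show e * (t * u) = t * u * e
        conv_lhs => rw [← h, mul_assoc, htu2, mul_one]
      set M3 := conjMap σ⁻¹ M with hM3
      have heM3 : e ∈ M3 := D.swap.mem_two hetu
      have htM3 : t ∈ M3 := D.swap.mem_two (show t * (t * u) = t * u * t by rw [D.comm]; group; rw [← D.comm])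
      have heF : e ∈ (Cfsg.fittingSubgroup M3).map M3.subtype := by
        refine centralizer_self_fitting D.swap.sol_two heM3 fun q hq a ha => ?_
        haveI := Fact.mk hq
        rcases eq_or_ne q 2 with rfl | hq2
        · rw [D.swap.cr_two_two, mem_bot] at ha
          rw [ha]; exact Commute.one_left e
        rcases eq_or_ne q r with rfl | hqr
        · rw [cr_conjMap, hrM] at ha
          rw [mem_bot.1 ((Subgroup.map_bot (MulAut.conj σ⁻¹).toMonoidHom).le ha)]
          exact Commute.one_left e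
        refine rigid D.tt (odd_card_of_isPGroup hq2 (isPGroup_cr M3)) (cr_normalizer q M3 htM3)
          (cr_normalizer q M3 heM3) het (coprime_of_isPGroup (Ne.symm hqr) (isPGroup_cr H) (isPGroup_cr M3) he)
          (odd_orderOf_of_mem hEo he) (fun a ha hat => ?_) a ha
        rw [hM3, cr_conjMap, mem_conjMap_iff, inv_inv] at ha
        have hau : Commute (σ * a * σ⁻¹) u := by
          rw [← D.conj_t]
          show σ * a * σ⁻¹ * (σ * t * σ⁻¹) = σ * t * σ⁻¹ * (σ * a * σ⁻¹)
          calc σ * a * σ⁻¹ * (σ * t * σ⁻¹) = σ * (a * t) * σ⁻¹ := by group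
            _ = σ * (t * a) * σ⁻¹ := by rw [hat.eq]
            _ = _ := by group
        have haH : a ∈ H := by
          have h := D.conj_mem (q := q) (H := H) hq2 (fun c h1 h2 => hAH (hW c h1 h2))
            (fun c hc hct => hAH (by
              rcases eq_or_ne q p with rfl | hqp
              · exact hRt c hc hct
              · exact hFn q hq hqp hc)) ha hau
          rwa [show σ⁻¹ * (σ * a * σ⁻¹) * σ = a by group] at h
        have haM3 : a ∈ cr q M3 := by
          rw [hM3, cr_conjMap, mem_conjMap_iff, inv_inv]; exact ha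
        exact (commute_of_disjoint (IsPGroup.disjoint_of_ne r q (Ne.symm hqr) _ _ (isPGroup_cr H)
          (isPGroup_cr M3)) he haM3 (cr_normalizer q M3 heM3) (cr_normalizer r H haH)).symm
      have := mem_cr_of_fitting (isPGroup_cr (p := r) H) heF he
      rw [hM3, cr_conjMap, hrM] at this
      exact mem_bot.1 ((Subgroup.map_bot (MulAut.conj σ⁻¹).toMonoidHom).le this)
    · have hpp' : ∃ (a : ℕ) (_ : Fact a.Prime), a ≠ r ∧ cr a M ≠ ⊥ := by
        by_cases h : p = r
        · exact ⟨p', ⟨hp'⟩, h ▸ hpp, hp'M⟩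
        · exact ⟨p, inferInstance, h, hpM⟩
      obtain ⟨a, ha, har, haM⟩ := hpp'
      exact le_inf (Cfsg.Lib.Misc.BenderLeads.cr_le_of_two D.coatom hQ1 hL1 har haM hrM)
        (Cfsg.Lib.Misc.BenderLeads.cr_le_of_two hM2c hQ2 hL2 har (hne2 a haM) (hne2 r hrM))
  -- no components
  have hlayH : Cfsg.layer H = ⊥ :=
    hlay H hH htH huH p Fact.out
      (fun c hc hcu => D.conj_mem hp2 (fun c h1 h2 => hAH (hW c h1 h2)) (fun c hc hct => hAH (hRt c hc hct)) hc hcu)
      (fun c hc hcu => by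
        have h := D.swap.conj_mem (q := p) (H := H) hp2 (fun c h1 h2 => hAH (hW c h1 (by
          have := h1.mul_right h2
          rwa [← mul_assoc, D.tt, one_mul] at this))) (fun c hc hct => hAH (hRt c hc hct)) hc hcu
        rwa [inv_inv] at h)
      d₀ (hN hd₀) (hAH (le_normalizer (subset_closure ⟨hd₀, hd₀t, hd₀u⟩)))
      hd₀1 hd₀t (Or.inl hd₀u)
  have hgF : Cfsg.generalizedFittingSubgroup H = Cfsg.fittingSubgroup H := by
    rw [Cfsg.generalizedFittingSubgroup, hlayH, bot_sup_eq]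
  set Q' := (Cfsg.fittingSubgroup H).map H.subtype
  have hQ'M : Q' ≤ M ⊓ M2 := Cfsg.Lib.Misc.BenderLeads.fitting_le_of_cr H _ hHcr
  have hQ'1 : Q' ≠ ⊥ := by
    intro e
    have h1 : Cfsg.fittingSubgroup H = ⊥ := (map_eq_bot_iff_of_injective _ H.subtype_injective).1 e
    have h2 : (⟨t, htH⟩ : H) ∈ Cfsg.generalizedFittingSubgroup H := by
      refine Cfsg.Lib.Components.centralizer_genFitting_le (mem_centralizer_iff.2 fun y hy => ?_)
      rw [hgF, h1, SetLike.mem_coe, mem_bot] at hy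
      rw [hy, one_mul, mul_one]
    rw [hgF, h1, mem_bot] at h2
    exact D.tne (congrArg Subtype.val h2)
  have back : ∀ X : Subgroup G, Q' ≤ X → Cfsg.leadsTo H X := fun X hX =>
    ⟨Q', hQ'1, le_rfl, by rw [hgF]; exact inf_le_left.trans hX⟩
  have hone : ∀ X : Subgroup G, cr p X ≠ ⊥ → cr p' X ≠ ⊥ →
      ¬ ∃ r : ℕ, r.Prime ∧ IsPGroup r ↥(Cfsg.generalizedFittingSubgroup ↥X) := by
    rintro X h1 h2 ⟨r, hr, hX⟩
    haveI := Fact.mk hr
    have key : ∀ (q : ℕ) [Fact q.Prime], cr q X ≠ ⊥ → q = r := by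
      intro q _ hq
      by_contra hqr
      refine hq (disjoint_self.1 ?_)
      exact IsPGroup.disjoint_of_ne q r hqr _ _ (isPGroup_cr X)
        ((hX.map X.subtype).to_le (Cfsg.Lib.Misc.BenderLeads.cr_le_genFitting Fact.out X))
    exact hpp ((key p' h2).trans (key p h1).symm)
  have hMH : M = H := by
    rcases Cfsg.Lib.Misc.BenderLeads.main_two hna D.coatom hH ⟨A, hA1, hQ1, hL1⟩
      (back M (hQ'M.trans inf_le_left)) with h | ⟨r, hr, h, -⟩
    · exact h
    · exact (hone M hpM hp'M ⟨r, hr, h⟩).elim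
  have hM2H : M2 = H := by
    rcases Cfsg.Lib.Misc.BenderLeads.main_two hna hM2c hH ⟨A, hA1, hQ2, hL2⟩
      (back M2 (hQ'M.trans inf_le_right)) with h | ⟨r, hr, h, -⟩
    · exact h
    · exact (hone M2 (hne2 p hpM) (hne2 p' hp'M) ⟨r, hr, h⟩).elim
  have hσ : σ ∈ normalizer (M : Set G) :=
    Cfsg.Lib.Coprime.conjMap_eq_self_iff.1 (hM2H.trans hMH.symm)
  rw [Cfsg.Lib.BenderSE.Crit2.normalizer_eq_of_coatom D.coatom le_rfl le_normalizer
    (fun e => D.tne (mem_bot.1 (e ▸ D.t_mem)))] at hσ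
  exact D.out hσ

/-- THEOREM A. -/
theorem false_of_two_primes [IsSimpleGroup G] (hna : ¬ IsMulCommutative G) (hlay : LayerHyp M t u σ)
    {q₁ q₂ : ℕ} (h1 : q₁.Prime) (h2 : q₂.Prime) (hne : q₁ ≠ q₂) (h1M : cr q₁ M ≠ ⊥) (h2M : cr q₂ M ≠ ⊥) :
    False := by
  obtain ⟨p, hp, v, hv, hvt⟩ := D.exists_moved
  haveI := Fact.mk hp
  obtain ⟨p', hp', hpp, hp'M⟩ : ∃ p', p'.Prime ∧ p' ≠ p ∧ cr p' M ≠ ⊥ := by
    by_cases h : q₁ = p
    · exact ⟨q₂, h2, h ▸ hne.symm, h2M⟩
    · exact ⟨q₁, h1, h, h1M⟩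
  obtain ⟨N, ⟨hN, hNn, v', hv', hv't⟩, hmin⟩ := WellFounded.has_min wellFounded_lt
    {N : Subgroup G | N ≤ cr p M ∧ M ≤ normalizer (N : Set G) ∧ ∃ v ∈ N, ¬ Commute v t}
    ⟨cr p M, le_rfl, cr_normalizer p M, v, hv, hvt⟩
  haveI : Group.IsNilpotent (cr p M) := (isPGroup_cr (p := p) M).isNilpotent
  have hN1 : N ≠ ⊥ := fun e => hv't (by
    rw [e, mem_bot] at hv'
    rw [hv']; exact Commute.one_left t)
  have hlt : ⁅N, cr p M⁆ < N :=
    Cfsg.Lib.Coprime.commutator_lt_of_isNilpotent hN hN1 ((cr_le p M).trans hNn)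
  have hmin' : ∀ w ∈ ⁅N, cr p M⁆, Commute w t := by
    intro w hw
    by_contra hwt
    refine hmin ⁅N, cr p M⁆ ⟨hlt.le.trans hN, fun g hg => ?_, w, hw, hwt⟩ hlt
    rw [← Cfsg.Lib.Coprime.conjMap_eq_self_iff, conjMap, map_commutator]
    rw [show N.map (MulAut.conj g).toMonoidHom = N from Cfsg.Lib.Coprime.conjMap_eq_self (hNn hg),
      show (cr p M).map (MulAut.conj g).toMonoidHom = cr p M from
        Cfsg.Lib.Coprime.conjMap_eq_self (cr_normalizer p M hg)]
  have hp2 : p ≠ 2 := by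
    rintro rfl
    rw [D.two, mem_bot] at hv
    exact hvt (hv ▸ Commute.one_left t)
  obtain ⟨d, hdN, hd1, hdt, hd⟩ := exists_inverted_fixed (odd_card_of_isPGroup hp2 ((isPGroup_cr M).to_le hN))
    D.tt D.uu D.comm (hNn D.t_mem) (hNn D.u_mem) hv' hv't
  rcases hd with hd | hd
  · exact D.false_of_side hna hlay hp' hpp hp'M hN hNn hmin' hdN hd1 hdt hd
  · refine D.swap.false_of_side hna ?_ hp' hpp hp'M hN hNn hmin' hdN hd1 hdt hd
    intro H hH htH htuH q hq hp₁ hp₂ x hxM hxH hx1 hxt hx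
    have huH : u ∈ H := by
      have := mul_mem htH htuH
      rwa [← mul_assoc, D.tt, one_mul] at this
    refine hlay H hH htH huH q hq (fun c hc hcu => by have := hp₂ c hc (by rwa [← mul_assoc, D.tt, one_mul]); rwa [inv_inv] at this)
      (fun c hc hcu => by have := hp₁ c hc hcu; rwa [inv_inv] at this) x hxM hxH hx1 hxt ?_
    rw [← mul_assoc, D.tt, one_mul] at hx
    exact hx.symm

end Data

end Cfsg.Lib.GW.MaxCent
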