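import Cfsg.Agent.FourGroupGW.Basic
import Cfsg.Agent.FourGroupGW.MaxCent.TheoremA

/-!
Four-group problem: a non-fusing maximal subgroup over `C(t)` satisfies the hypotheses of Theorem A.
-/

set_option autoImplicit false
set_option linter.unusedSectionVars false
set_option linter.style.haveILetI false

namespace Cfsg.Lib.GW.MaxCent

open Subgroup
open Cfsg.Lib.Misc.BenderPair (cr cr_le cr_normalizer isPGroup_cr)
open Cfsg.Lib.GenDihedral (mem_of_sq)

universe u

variable {G : Type u} [Group G] [Finite G] (F : Frame G)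

theorem mem_core_of_odd {M : Subgroup G} (hU : F.U ≤ M) (hM : M = Core M ⊔ F.U) {x : G} (hx : x ∈ M)
    (ho : Odd (orderOf x)) : x ∈ Core M := by
  have hx' : x ∈ Core M ⊔ F.U := by rw [← hM]; exact hx
  have hn : F.U ≤ normalizer (Core M : Set G) := hU.trans (le_normalizer_core M)
  obtain ⟨a, ha, b, hb, rfl⟩ := (Cfsg.Lib.Coprime.mem_sup_of_le_normalizer' hn).1 hx'
  refine mem_of_sq ho ?_
  have haa : a * a = 1 := by
    rcases F.mem_U.1 ha with rfl | rfl | rfl | rfl
    exacts [one_mul 1, F.t_sq, F.u_sq, F.v_sq]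
  rw [show a * b * (a * b) = a * b * a⁻¹ * b by rw [inv_eq_of_mul_eq_one_right haa]; group]
  exact mul_mem ((mem_normalizer_iff.1 (hn ha) b).1 hb) hb

theorem mem_U_of_ne {s : G} (hs : s ∈ F.U) (h1 : s ≠ 1) : s = F.t ∨ s = F.u ∨ s = F.t * F.u :=
  (F.mem_U.1 hs).resolve_left h1

/-- LayerHyp from the odd and component specifications. -/
theorem layerHyp (hm : Minimal G) (hO : F.OddSpec) (hC : F.CompSpec) {M : Subgroup G} (hCM : F.C ≤ M)
    (hM : M = Core M ⊔ F.U) (h2M : cr 2 M = ⊥) : LayerHyp M F.t F.u F.σ := by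
  intro H hH htH huH q hq _ _ d hdM hdH hd1 hdt hd
  haveI := Fact.mk hq
  have hUH : F.U ≤ H := F.U_le_iff.2 ⟨htH, huH⟩
  have hUM : F.U ≤ M := F.U_le_C.trans hCM
  by_contra hlay
  have hne : Cfsg.generalizedFittingSubgroup H ≠ Cfsg.fittingSubgroup H := by
    intro e
    apply hlay
    rw [eq_bot_iff]
    refine sSup_le fun L hL => absurd ?_ (Cfsg.Lib.Components.comp_not_isSolvable hL)
    exact Cfsg.Lib.Coprime.isSolvable_of_le
      ((le_sSup hL).trans (Cfsg.Lib.Components.layer_le_genFitting.trans e.le))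
      Cfsg.Lib.Components.isSolvable_fitting
  obtain ⟨⟨-, g, hgH, hgU, hgt⟩, L, -, -, -, hUL, hKL⟩ := hC H hH.1 hUH hne
  -- `d` is odd
  have hdo : Odd (orderOf d) := by
    rcases eq_or_ne q 2 with rfl | h2
    · rw [h2M, mem_bot] at hdM
      exact absurd hdM hd1
    · exact odd_orderOf_of_mem (odd_card_of_isPGroup h2 (isPGroup_cr M)) hdM
  have hdcore : d ∉ Core H := fun h => by
    have h1 : Commute d F.t := (mem_centralizer_iff.1 (hKL h) F.t (hUL F.t_mem_U)).symm
    refine hd1 (eq_one_of_mul_self hdo ?_)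
    have h2 : F.t * d * F.t = d := by rw [← h1.eq, mul_assoc, F.t_sq, mul_one]
    rw [hdt] at h2
    conv_lhs => arg 1; rw [← h2]
    exact inv_mul_cancel d
  -- `g` permutes the involutions cyclically
  have hgu : g * F.u * g⁻¹ = F.t * F.u := by
    rcases mem_U_of_ne F ((mem_normalizer_iff.1 hgU _).1 F.u_mem_U) (fun e => F.u_ne_one (conj_eq_one_iff.1 e))
      with h | h | h
    · exfalso
      have hv : g * (F.t * F.u) * g⁻¹ = F.t * F.u := by rw [← conj_mul, hgt, h, ← F.comm]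
      have hσn : F.σ ∈ normalizer (F.U : Set G) := F.σ_mem
      have h2 : F.σ * g * F.σ⁻¹ * F.t * (F.σ * g * F.σ⁻¹)⁻¹ = F.t := by
        calc F.σ * g * F.σ⁻¹ * F.t * (F.σ * g * F.σ⁻¹)⁻¹
            = F.σ * (g * (F.σ⁻¹ * F.t * F.σ) * g⁻¹) * F.σ⁻¹ := by group
          _ = F.σ * (g * (F.t * F.u) * g⁻¹) * F.σ⁻¹ := by
            rw [show F.σ⁻¹ * F.t * F.σ = F.t * F.u by
              rw [show F.σ⁻¹ * F.t * F.σ = F.σ⁻¹ * (F.σ * (F.t * F.u) * F.σ⁻¹) * F.σ by rw [F.σ_v]]
              group]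
          _ = F.t := by rw [hv, F.σ_v]
      have hcU := F.centralizes_of_normalizer hm
        (mul_mem (mul_mem hσn hgU) (inv_mem hσn)) h2
      have hgc : g ∈ centralizer (F.U : Set G) := by
        have := (mem_normalizer_iff.1 F.σ_mem_centralizer_U g).2 hcU
        exact this
      exact F.t_ne_u ((mul_inv_eq_iff_eq_mul.2 (mem_centralizer_iff.1 hgc F.t F.t_mem_U).symm).symm.trans hgt)
    · exact absurd ((MulAut.conj g).injective (show g * F.u * g⁻¹ = g * F.t * g⁻¹ by rw [h, hgt]))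
        F.t_ne_u.symm
    · exact h
  have hgv : g * (F.t * F.u) * g⁻¹ = F.t := by
    rw [← conj_mul, hgt, hgu, F.comm, ← mul_assoc, F.u_sq, one_mul]
  -- a conjugate `d'` commutes with `t` and is inverted by `u`
  obtain ⟨d', hd'H, hd't, hd'u, hd'o, hd'core⟩ : ∃ d' ∈ H, Commute d' F.t ∧ F.u * d' * F.u = d'⁻¹ ∧
      Odd (orderOf d') ∧ d' ∉ Core H := by
    have hinv : d⁻¹ = F.t * d * F.t⁻¹ := by rw [F.t_inv]; exact hdt.symm
    rcases hd with hd | hd
    · refine ⟨g⁻¹ * d * g, mul_mem (mul_mem (inv_mem hgH) hdH) hgH, ?_, ?_, ?_, fun h => ?_⟩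
      · show g⁻¹ * d * g * F.t = F.t * (g⁻¹ * d * g)
        calc g⁻¹ * d * g * F.t = g⁻¹ * (d * (g * F.t * g⁻¹)) * g := by group
          _ = g⁻¹ * (g * F.t * g⁻¹ * d) * g := by rw [hgt, hd.eq]
          _ = _ := by group
      · have hiu : g⁻¹ * F.t * g = F.t * F.u := by
          calc g⁻¹ * F.t * g = g⁻¹ * (g * (F.t * F.u) * g⁻¹) * g := by rw [hgv]
            _ = _ := by group
        have h1 : (F.t * F.u) * (g⁻¹ * d * g) * (F.t * F.u)⁻¹ = (g⁻¹ * d * g)⁻¹ := by
          rw [show (g⁻¹ * d * g)⁻¹ = g⁻¹ * d⁻¹ * g by group, hinv, ← hiu]; group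
        have hct : g⁻¹ * d * g * F.t = F.t * (g⁻¹ * d * g) := by
          calc g⁻¹ * d * g * F.t = g⁻¹ * (d * (g * F.t * g⁻¹)) * g := by group
            _ = g⁻¹ * (g * F.t * g⁻¹ * d) * g := by rw [hgt, hd.eq]
            _ = _ := by group
        rw [← h1, inv_eq_of_mul_eq_one_left F.v_sq]
        calc F.u * (g⁻¹ * d * g) * F.u = F.u * (F.t * (F.t * (g⁻¹ * d * g))) * F.u := by
              rw [← mul_assoc F.t F.t, F.t_sq, one_mul]
          _ = F.u * (F.t * (g⁻¹ * d * g * F.t)) * F.u := by rw [hct]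
          _ = F.u * F.t * (g⁻¹ * d * g) * (F.t * F.u) := by group
          _ = _ := by rw [← F.comm]
      · have h := MulEquiv.orderOf_eq (MulAut.conj g⁻¹) d
        rw [MulAut.conj_apply, inv_inv] at h
        rw [h]; exact hdo
      · apply hdcore
        have := (mem_normalizer_iff.1 (le_normalizer_core H hgH) _).1 h
        rwa [show g * (g⁻¹ * d * g) * g⁻¹ = d by group] at this
    · refine ⟨g * d * g⁻¹, mul_mem (mul_mem hgH hdH) (inv_mem hgH), ?_, ?_, ?_, fun h => ?_⟩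
      · show g * d * g⁻¹ * F.t = F.t * (g * d * g⁻¹)
        rw [← hgv, conj_mul, conj_mul, hd.eq]
      · have : F.u * (g * d * g⁻¹) * F.u⁻¹ = (g * d * g⁻¹)⁻¹ := by
          rw [conj_inv, hinv, ← hgt]; group
        rwa [F.u_inv] at this
      · have h := MulEquiv.orderOf_eq (MulAut.conj g) d
        rw [MulAut.conj_apply] at h
        rw [h]; exact hdo
      · exact hdcore ((mem_normalizer_iff.1 (le_normalizer_core H hgH) d).2 h)
  -- both lie in the odd core of `M` meet `H`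
  set K := Core M ⊓ H
  have hKo : Odd (Nat.card K) := (Frame.odd_card_core M).of_dvd_nat (card_dvd_of_le inf_le_left)
  have hKn : F.U ≤ normalizer (K : Set G) :=
    Cfsg.Lib.Coprime.le_normalizer_inf (hUM.trans (le_normalizer_core M)) (hUH.trans le_normalizer)
  obtain ⟨s, hs, hs1, hsfix⟩ := hO H hH.1 hUH K inf_le_right hKo hKn
  have hdK : d ∈ K := ⟨mem_core_of_odd F hUM hM (cr_le q M hdM) hdo, hdH⟩
  have hd'M : d' ∈ M := hCM (F.mem_C.2 hd't.eq)
  have hd'K : d' ∈ K := ⟨mem_core_of_odd F hUM hM hd'M hd'o, hd'H⟩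
  have kill : ∀ x : G, Odd (orderOf x) → x⁻¹ * x⁻¹ ∈ Core H → x ∈ Core H := fun x ho h => by
    have := mem_of_sq (x := x⁻¹) (by rwa [orderOf_inv]) h
    exact inv_mem_iff.1 this
  rcases mem_U_of_ne F hs hs1 with rfl | rfl | rfl
  · have h := hsfix d hdK
    rw [F.t_inv, hdt] at h
    exact hdcore (kill d hdo h)
  · have h := hsfix d' hd'K
    rw [F.u_inv, hd'u] at h
    exact hd'core (kill d' hd'o h)
  · have h := hsfix d' hd'K
    rw [inv_eq_of_mul_eq_one_left F.v_sq] at h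
    have e : F.t * F.u * d' * (F.t * F.u) = d'⁻¹ := by
      calc F.t * F.u * d' * (F.t * F.u) = F.t * (F.u * d' * F.u) * F.t := by rw [F.comm]; group; rw [F.comm]
        _ = d'⁻¹ := by rw [hd'u, ← hd't.inv_left.eq, mul_assoc, F.t_sq, mul_one]
    rw [e] at h
    exact hd'core (kill d' hd'o h)

end Cfsg.Lib.GW.MaxCent
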