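import Cfsg.Agent.FourGroupGW.MaxCent.Index
import Cfsg.Agent.FourGroupGW.MaxCent.Layer
import Cfsg.Agent.GenDihedral.Inv

/-!
Four-group problem: `C(t)` is maximal, reduced to a maximal subgroup with one prime in its Fitting subgroup.
-/

set_option autoImplicit false
set_option linter.unusedSectionVars false
set_option linter.style.haveILetI false

namespace Cfsg.Lib.GW.MaxCent

open Subgroup
open Cfsg.Lib.Misc.BenderPair (cr cr_le cr_normalizer isPGroup_cr)

universe u

variable {G : Type u} [Group G] [Finite G] (F : Frame G)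

theorem solvable_of_eq {M : Subgroup G} (hU : F.U ≤ M) (hM : M = Core M ⊔ F.U) : Group.IsSolvable M := by
  haveI : ((Core M).subgroupOf M).Normal :=
    (normal_subgroupOf_iff_le_normalizer (core_le M)).2 (le_normalizer_core M)
  haveI : Group.IsSolvable ((Core M).subgroupOf M) := by
    refine Cfsg.Lib.GenDihedral.solvable_of_odd ?_
    rw [Nat.card_congr (subgroupOfEquivOfLe (core_le M)).toEquiv]
    exact Frame.odd_card_core M
  let π := QuotientGroup.mk' ((Core M).subgroupOf M)
  haveI : Group.IsSolvable (M ⧸ (Core M).subgroupOf M) := by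
    have key : ∀ q : M ⧸ (Core M).subgroupOf M, ∃ a : M, (a : G) ∈ F.U ∧ π a = q := by
      intro q
      obtain ⟨⟨x, hx⟩, rfl⟩ := QuotientGroup.mk'_surjective _ q
      have hx' : x ∈ Core M ⊔ F.U := hM ▸ hx
      obtain ⟨a, ha, b, hb, rfl⟩ :=
        (Cfsg.Lib.Coprime.mem_sup_of_le_normalizer' (hU.trans (le_normalizer_core M))).1 hx'
      refine ⟨⟨a, hU ha⟩, ha, ?_⟩
      show π ⟨a, hU ha⟩ = π ⟨a * b, hx⟩
      rw [show (⟨a * b, hx⟩ : M) = ⟨a, hU ha⟩ * ⟨b, core_le M hb⟩ from rfl, map_mul,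
        show π ⟨b, core_le M hb⟩ = 1 from (QuotientGroup.eq_one_iff _).2 hb, mul_one]
    refine ⟨⟨1, ?_⟩⟩
    rw [derivedSeries_one, eq_bot_iff, commutator_def, commutator_le]
    intro x _ y _
    obtain ⟨a, ha, rfl⟩ := key x
    obtain ⟨b, hb, rfl⟩ := key y
    rw [mem_bot, commutatorElement_eq_one_iff_mul_comm, ← map_mul, ← map_mul,
      show a * b = b * a from Subtype.ext (F.U_comm ha hb)]
  exact Group.isSolvable_of_ker_le_range ((Core M).subgroupOf M).subtype π
    (fun x hx => ⟨⟨x, (QuotientGroup.eq_one_iff x).1 hx⟩, rfl⟩)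

/-- a maximal subgroup over `C(t)` whose 2-core is non-trivial is `C(t)` -/
theorem eq_C_of_two (hm : Minimal G) {M : Subgroup G} (hC : F.C ≤ M) (hM : M = Core M ⊔ F.U)
    (h2 : cr 2 M ≠ ⊥) : M = F.C := by
  haveI := Fact.mk Nat.prime_two
  have hU : F.U ≤ M := F.U_le_C.trans hC
  have hP := (isPGroup_cr (p := 2) M).to_sup_of_normal_left' F.isPGroup_U (hU.trans (cr_normalizer 2 M))
  have hle : cr 2 M ≤ F.U := le_sup_left.trans (F.eq_U_of_le hm hP le_sup_right).le
  obtain ⟨s, hs, hs1⟩ : ∃ s ∈ cr 2 M, s ≠ 1 := by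
    by_contra h
    push Not at h
    exact h2 (eq_bot_iff.2 fun x hx => mem_bot.2 (h x hx))
  have hsU := hle hs
  have hMs : M ≤ centralizer {s} := by
    have hdis : Disjoint (Core M) (cr 2 M) := by
      refine disjoint_iff.2 (Cfsg.Lib.Coprime.inf_eq_bot_of_coprime ?_)
      obtain ⟨n, hn⟩ := IsPGroup.iff_card.1 (isPGroup_cr (p := 2) M)
      rw [hn]
      exact (Nat.coprime_two_right.2 (Frame.odd_card_core M)).pow_right n
    calc M = Core M ⊔ F.U := hM
      _ ≤ centralizer {s} := by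
        refine sup_le (fun x hx => mem_centralizer_singleton_iff.2 ?_)
          (fun x hx => mem_centralizer_singleton_iff.2 (F.U_comm hx hsU))
        exact (commute_of_disjoint hdis hx hs (cr_normalizer 2 M (core_le M hx))
          (le_normalizer_core M (cr_le 2 M hs))).eq
  have hord : orderOf s = 2 := by
    refine orderOf_eq_prime ?_ hs1
    rcases F.mem_U.1 hsU with rfl | rfl | rfl | rfl <;> rw [pow_two]
    exacts [one_mul 1, F.t_sq, F.u_sq, F.v_sq]
  obtain ⟨g, hg⟩ := F.exists_conj_t hm hord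
  have hcard : Nat.card (centralizer ({s} : Set G)) = Nat.card F.C := by
    rw [← Cfsg.Lib.Coprime.card_conjMap g F.C]
    congr 2
    ext x
    rw [Cfsg.Lib.Coprime.mem_conjMap, mem_centralizer_singleton_iff, F.mem_C, ← hg]
    constructor
    · intro h
      calc g⁻¹ * x * g * F.t = g⁻¹ * (x * (g * F.t * g⁻¹)) * g := by group
        _ = g⁻¹ * (g * F.t * g⁻¹ * x) * g := by rw [h]
        _ = _ := by group
    · intro h
      calc x * (g * F.t * g⁻¹) = g * (g⁻¹ * x * g * F.t) * g⁻¹ := by group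
        _ = g * (F.t * (g⁻¹ * x * g)) * g⁻¹ := by rw [h]
        _ = _ := by group
  have he := Cfsg.Lib.Coprime.eq_of_le_of_card_eq (hC.trans hMs) hcard.symm
  exact le_antisymm (hMs.trans he.ge) hC

/-- What remains for `C(t)` to be maximal: no maximal subgroup over it has a single prime in its Fitting subgroup. -/
def OnePrime : Prop :=
  F.W ≠ ⊥ → ∀ M : Subgroup G, F.C ≤ M → M = Core M ⊔ F.U → Data M F.t F.u F.σ →
    ∀ p : ℕ, p.Prime → (∀ q : ℕ, q.Prime → q ≠ p → cr q M = ⊥) → False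

theorem maximal_of_onePrime (hm : Minimal G) (hB : F.NonFusingSpec) (hT : F.TopSpec) (hO : F.OddSpec)
    (hC : F.CompSpec) (hcb : F.CharBound) (h1 : OnePrime F) : F.Maximal := by
  intro hW
  haveI := hm.simple
  have hCt : F.C ≠ ⊤ := by
    intro e
    have hz : F.t ∈ center G := mem_center_iff.2 fun x => F.mem_C.1 (e ▸ mem_top x)
    rcases IsSimpleGroup.eq_bot_or_eq_top_of_normal (center G) inferInstance with h | h
    · rw [h, mem_bot] at hz; exact F.t_ne_one hz
    · exact hm.nonab ⟨⟨fun a b => mem_center_iff.1 (h ▸ mem_top b) a⟩⟩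
  obtain ⟨M, hMc, hCM⟩ := Cfsg.Lib.OddLocal.Uniqueness.exists_coatom_ge hCt
  have hnf := no_fusing_over_C F hm hT hcb hW hMc.1 hCM
  have hU : F.U ≤ M := F.U_le_C.trans hCM
  have hM := hB M hMc.1 hU hnf
  by_cases h2 : cr 2 M = ⊥
  swap
  · rwa [← eq_C_of_two F hm hCM hM h2]
  exfalso
  have D : Data M F.t F.u F.σ :=
    { coatom := hMc
      tt := F.t_sq
      uu := F.u_sq
      tne := F.t_ne_one
      comm := F.comm
      cent := hCM
      conj_t := F.σ_t
      conj_u := F.σ_u
      out := fun h => hnf ⟨hU, F.σ, h, F.σ_mem, F.σ_t⟩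
      sol := solvable_of_eq F hU hM
      odd := ⟨Core M, core_le M, le_normalizer_core M, Frame.odd_card_core M,
        fun x hx ho _ => mem_core_of_odd F hU hM hx ho⟩
      two := h2 }
  obtain ⟨p, hp, v, hv, hvt⟩ := D.exists_moved
  refine h1 hW M hCM hM D p hp fun q hq hqp => ?_
  by_contra hqM
  refine D.false_of_two_primes hm.nonab (layerHyp F hm hO hC hCM hM h2) hp hq (Ne.symm hqp) ?_ hqM
  intro e
  rw [e, mem_bot] at hv
  exact hvt (hv ▸ Commute.one_left F.t)

end Cfsg.Lib.GW.MaxCent
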