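import Cfsg.Agent.FourGroupGW.MaxCent.Inverted
import Cfsg.Agent.Components.Misc.BenderLeads
import Cfsg.Agent.Components.Misc.PIrr
import Cfsg.Agent.BenderSE.Criterion2.Maximal

/-!
Four-group problem: a non-fusing maximal subgroup over `C(t)` and the inverted elements of its cores.
-/

set_option autoImplicit false
set_option linter.unusedSectionVars false

namespace Cfsg.Lib.GW.MaxCent

open Subgroup
open Cfsg.Lib.Misc.BenderPair (cr cr_le cr_normalizer isPGroup_cr)
open Cfsg.Lib.Misc.BenderLeads (le_cr_of_le_fitting)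
open Cfsg.Lib.Coprime (conjMap)
open scoped commutatorElement

universe v

variable {G : Type v} [Group G] [Finite G]

theorem le_cr_of_normal {q : ℕ} [Fact q.Prime] {M N : Subgroup G} (hN : N ≤ M)
    (hn : M ≤ normalizer (N : Set G)) (hp : IsPGroup q N) : N ≤ cr q M := by
  haveI : (N.subgroupOf M).Normal := (normal_subgroupOf_iff_le_normalizer hN).2 hn
  have h := map_mono (f := M.subtype)
    (Cfsg.Lib.Components.le_pCore (p := q) (N := N.subgroupOf M) (hp.comap_of_injective _ M.subtype_injective))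
  rwa [map_subgroupOf_eq_of_le hN] at h

theorem le_normalizer_conjMap {g : G} {M N : Subgroup G} (h : M ≤ normalizer (N : Set G)) :
    conjMap g M ≤ normalizer (conjMap g N : Set G) := by
  rw [Cfsg.Lib.Coprime.normalizer_conjMap]
  exact Cfsg.Lib.Coprime.conjMap_mono h

theorem cr_conjMap {q : ℕ} [Fact q.Prime] (g : G) (M : Subgroup G) :
    cr q (conjMap g M) = conjMap g (cr q M) := by
  have h : ∀ (g : G) (M : Subgroup G), conjMap g (cr q M) ≤ cr q (conjMap g M) := fun g M =>
    le_cr_of_normal (Cfsg.Lib.Coprime.conjMap_mono (cr_le q M)) (le_normalizer_conjMap (cr_normalizer q M))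
      ((isPGroup_cr M).map _)
  refine le_antisymm ?_ (h g M)
  have h1 := h g⁻¹ (conjMap g M)
  rw [Cfsg.Lib.Coprime.conjMap_inv_conjMap] at h1
  have h2 := Cfsg.Lib.Coprime.conjMap_mono (g := g) h1
  rwa [Cfsg.Lib.Coprime.conjMap_conjMap_inv] at h2

theorem mem_conjMap_iff {g x : G} {M : Subgroup G} : x ∈ conjMap g M ↔ g⁻¹ * x * g ∈ M :=
  Cfsg.Lib.Coprime.mem_conjMap

theorem odd_card_of_isPGroup {q : ℕ} [hq : Fact q.Prime] (h2 : q ≠ 2) {V : Subgroup G} (h : IsPGroup q V) :
    Odd (Nat.card V) := by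
  obtain ⟨k, hk⟩ := IsPGroup.iff_card.1 h
  rw [hk]
  exact (hq.out.odd_of_ne_two h2).pow

theorem coprime_of_isPGroup {q r : ℕ} [hq : Fact q.Prime] [hr : Fact r.Prime] (h : q ≠ r) {V W : Subgroup G}
    (hV : IsPGroup q V) (hW : IsPGroup r W) {x : G} (hx : x ∈ V) : (orderOf x).Coprime (Nat.card W) :=
  (IsPGroup.coprime_card_of_ne q r h _ _ hV hW).coprime_dvd_left (Subgroup.orderOf_dvd_natCard V hx)

/-- an element normalising a `q`-subgroup, commuting with one of its elements modulo a disjoint subgroup -/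
theorem commute_of_disjoint {A B : Subgroup G} (h : Disjoint A B) {a b : G} (ha : a ∈ A) (hb : b ∈ B)
    (haB : a ∈ normalizer (B : Set G)) (hbA : b ∈ normalizer (A : Set G)) : Commute a b := by
  have h1 : a * b * a⁻¹ * b⁻¹ ∈ A := by
    rw [mul_assoc, mul_assoc, ← mul_assoc b]
    exact mul_mem ha ((mem_normalizer_iff.1 hbA _).1 (inv_mem ha))
  have h2 : a * b * a⁻¹ * b⁻¹ ∈ B := mul_mem ((mem_normalizer_iff.1 haB _).1 hb) (inv_mem hb)
  have h3 : a * b * a⁻¹ * b⁻¹ = 1 := disjoint_def.1 h h1 h2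
  exact mul_inv_eq_iff_eq_mul.1 (mul_inv_eq_one.1 h3)

/-- A non-fusing maximal subgroup containing the centraliser of `t`. -/
structure Data (M : Subgroup G) (t u σ : G) : Prop where
  coatom : IsCoatom M
  tt : t * t = 1
  uu : u * u = 1
  tne : t ≠ 1
  comm : t * u = u * t
  cent : centralizer {t} ≤ M
  conj_t : σ * t * σ⁻¹ = u
  conj_u : σ * u * σ⁻¹ = t * u
  out : σ ∉ M
  sol : Group.IsSolvable M
  odd : ∃ X : Subgroup G, X ≤ M ∧ M ≤ normalizer (X : Set G) ∧ Odd (Nat.card X) ∧
    ∀ x ∈ M, Odd (orderOf x) → Commute x t → x ∈ X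
  two : cr 2 M = ⊥

namespace Data

variable {M : Subgroup G} {t u σ : G}

section
variable (D : Data M t u σ)
include D

theorem mem_of_comm {x : G} (h : Commute x t) : x ∈ M :=
  D.cent (mem_centralizer_singleton_iff.2 h.eq)

theorem t_mem : t ∈ M := D.mem_of_comm (Commute.refl t)

theorem u_mem : u ∈ M := D.mem_of_comm D.comm.symm

theorem conj_tu : σ * (t * u) * σ⁻¹ = t := by
  calc σ * (t * u) * σ⁻¹ = (σ * t * σ⁻¹) * (σ * u * σ⁻¹) := by group
    _ = u * (t * u) := by rw [D.conj_t, D.conj_u]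
    _ = u * (u * t) := by rw [D.comm]
    _ = t := by rw [← mul_assoc, D.uu, one_mul]

theorem inv_conj_u : σ⁻¹ * u * σ = t := by
  rw [← D.conj_t]; group

theorem inv_conj_t : σ⁻¹ * t * σ = t * u := by
  calc σ⁻¹ * t * σ = σ⁻¹ * (σ * (t * u) * σ⁻¹) * σ := by rw [D.conj_tu]
    _ = t * u := by group

theorem swap : Data M t (t * u) σ⁻¹ where
  coatom := D.coatom
  tt := D.tt
  uu := by
    rw [mul_assoc, ← mul_assoc u t u, ← D.comm, mul_assoc t u u, D.uu, mul_one, D.tt]
  tne := D.tne
  comm := by rw [mul_assoc t u t, ← D.comm]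
  cent := D.cent
  conj_t := by rw [inv_inv]; exact D.inv_conj_t
  conj_u := by
    rw [inv_inv, ← mul_assoc t t u, D.tt, one_mul]
    calc σ⁻¹ * (t * u) * σ = (σ⁻¹ * t * σ) * (σ⁻¹ * u * σ) := by group
      _ = t * u * t := by rw [D.inv_conj_t, D.inv_conj_u]
      _ = u := by rw [D.comm, mul_assoc, D.tt, mul_one]
  out := fun h => D.out (inv_mem_iff.1 h)
  sol := D.sol
  odd := D.odd
  two := D.two

/-- elements commuting with `u` lie in the conjugate over `C(u)` -/
theorem mem_two {x : G} (h : Commute x u) : x ∈ conjMap σ M := by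
  rw [mem_conjMap_iff]
  refine D.mem_of_comm ?_
  calc σ⁻¹ * x * σ * t = σ⁻¹ * x * σ * (σ⁻¹ * u * σ) := by rw [D.inv_conj_u]
    _ = σ⁻¹ * (x * u) * σ := by group
    _ = σ⁻¹ * (u * x) * σ := by rw [h.eq]
    _ = (σ⁻¹ * u * σ) * (σ⁻¹ * x * σ) := by group
    _ = t * (σ⁻¹ * x * σ) := by rw [D.inv_conj_u]

theorem cr_two_two : cr 2 (conjMap σ M) = ⊥ := by
  haveI := Fact.mk Nat.prime_two
  rw [cr_conjMap, D.two]
  exact Subgroup.map_bot _

theorem sol_two : Group.IsSolvable (conjMap σ M : Subgroup G) :=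
  Cfsg.Lib.Coprime.isSolvable_conjMap D.sol σ

/-- STEP 1: `t`-inverted elements of a core of `M` fixed by `u` lie in the same core over `C(u)`. -/
theorem mem_cr_two {q : ℕ} [hq : Fact q.Prime] {x : G} (hx : x ∈ cr q M) (hinv : t * x * t = x⁻¹)
    (hxu : Commute x u) : x ∈ cr q (conjMap σ M) := by
  rcases eq_or_ne q 2 with rfl | hq2
  · rw [D.two, mem_bot] at hx
    rw [hx]; exact one_mem _
  set N := conjMap σ M with hNdef
  have hxN : x ∈ N := D.mem_two hxu
  have htN : t ∈ N := D.mem_two D.comm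
  have hxo : Odd (orderOf x) := odd_orderOf_of_mem (odd_card_of_isPGroup hq2 (isPGroup_cr M)) hx
  have hcr : ∀ s : ℕ, s.Prime → s ≠ q → ∀ a ∈ cr s N, Commute a x := by
    intro s hs hsq
    haveI := Fact.mk hs
    rcases eq_or_ne s 2 with rfl | hs2
    · intro a ha
      rw [D.cr_two_two, mem_bot] at ha
      rw [ha]; exact Commute.one_left x
    refine rigid D.tt (odd_card_of_isPGroup hs2 (isPGroup_cr N)) (cr_normalizer s N htN)
      (cr_normalizer s N hxN) hinv (coprime_of_isPGroup (Ne.symm hsq) (isPGroup_cr M) (isPGroup_cr N) hx) hxo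
      fun a ha hat => ?_
    exact commute_of_disjoint (IsPGroup.disjoint_of_ne s q hsq _ _ (isPGroup_cr N) (isPGroup_cr M)) ha hx
      (cr_normalizer q M (D.mem_of_comm hat)) (cr_normalizer s N hxN)
  obtain ⟨X, hXM, hXn, hXo, hXmem⟩ := D.odd
  haveI := D.sol_two
  let R : Subgroup N := Cfsg.pCore q N
  let Y : Subgroup N := ⨆ s : {s : ℕ // s.Prime ∧ s ≠ q}, Cfsg.pCore s.1 N
  haveI : Y.Normal := by
    refine ⟨fun y hy g => ?_⟩
    have h : Y.map (MulAut.conj g).toMonoidHom = Y := by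
      simp only [Y, Subgroup.map_iSup]
      exact iSup_congr fun s => Cfsg.Lib.Components.pCore_map_equiv (MulAut.conj g)
    rw [← h]
    exact ⟨y, hy, rfl⟩
  haveI : ((conjMap σ X).subgroupOf N).Normal :=
    (normal_subgroupOf_iff_le_normalizer (Cfsg.Lib.Coprime.conjMap_mono hXM)).2 (le_normalizer_conjMap hXn)
  let K : Subgroup N := (conjMap σ X).subgroupOf N ⊓ centralizer (Y : Set N)
  have hKo : Odd (Nat.card K) := by
    refine hXo.of_dvd_nat ?_
    rw [← Cfsg.Lib.Coprime.card_conjMap σ X,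
      ← Nat.card_congr (subgroupOfEquivOfLe (Cfsg.Lib.Coprime.conjMap_mono (g := σ) hXM)).toEquiv]
    exact card_dvd_of_le inf_le_left
  let x' : N := ⟨x, hxN⟩
  let t' : N := ⟨t, htN⟩
  have hxK : x' ∈ K := by
    refine ⟨?_, mem_centralizer_iff.2 fun y hy => ?_⟩
    · show x' ∈ (conjMap σ X).subgroupOf N
      rw [mem_subgroupOf]
      show x ∈ conjMap σ X
      rw [mem_conjMap_iff]
      refine hXmem _ ((mem_conjMap_iff).1 hxN) ?_ ?_
      · have : orderOf (σ⁻¹ * x * σ) = orderOf x := by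
          have h := MulEquiv.orderOf_eq (MulAut.conj σ⁻¹) x
          rwa [MulAut.conj_apply, inv_inv] at h
        rw [this]; exact hxo
      · have h := hxu.map (MulAut.conj σ⁻¹).toMonoidHom
        simp only [MulEquiv.coe_toMonoidHom, MulAut.conj_apply, inv_inv] at h
        rwa [D.inv_conj_u] at h
    · have hle : Y ≤ centralizer ({x'} : Set N) := iSup_le fun s a ha =>
        mem_centralizer_singleton_iff.2 (Subtype.ext
          (hcr s.1 s.2.1 s.2.2 _ ⟨a, ha, rfl⟩).eq)
      exact mem_centralizer_singleton_iff.1 (hle hy)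
  let π := QuotientGroup.mk' R
  have hπ : Function.Surjective π := QuotientGroup.mk'_surjective R
  let Kb : Subgroup (N ⧸ R) := K.map π
  haveI : Kb.Normal := Subgroup.Normal.map inferInstance _ hπ
  have hKbo : Odd (Nat.card Kb) := hKo.of_dvd_nat (Subgroup.card_map_dvd _ _)
  haveI : Group.IsSolvable (N ⧸ R) := inferInstance
  haveI : Group.IsSolvable Kb := inferInstance
  have hcoreq : Cfsg.pCore q Kb = ⊥ := by
    have h1 : (Cfsg.pCore q Kb).map Kb.subtype ≤ Cfsg.pCore q (N ⧸ R) := by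
      haveI : ((Cfsg.pCore q Kb).map Kb.subtype).Normal := inferInstance
      exact Cfsg.Lib.Components.le_pCore ((Cfsg.Lib.Components.isPGroup_pCore q).map _)
    rw [← Cfsg.Lib.PIrr.map_pCore_quotient R (Cfsg.Lib.Components.isPGroup_pCore q),
      show (Cfsg.pCore q N).map (QuotientGroup.mk' R) = ⊥ from
        (Subgroup.map_eq_bot_iff _).2 (QuotientGroup.ker_mk' R).ge, le_bot_iff,
      map_eq_bot_iff_of_injective _ Kb.subtype_injective] at h1
    exact h1
  let xb : Kb := ⟨π x', mem_map_of_mem _ hxK⟩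
  have hπx : IsPGroup q (zpowers (x' : N)) := by
    obtain ⟨k, hk⟩ := isPGroup_cr (p := q) M ⟨x, hx⟩
    refine fun y => ?_
    obtain ⟨n, hn⟩ := y.2
    refine ⟨k, Subtype.ext (Subtype.ext ?_)⟩
    have hk' : x ^ q ^ k = 1 := congrArg Subtype.val hk
    show ((y : N) : G) ^ q ^ k = 1
    rw [← hn]
    show (x ^ n) ^ q ^ k = 1
    rw [← zpow_natCast, ← zpow_mul, mul_comm, zpow_mul, zpow_natCast, hk', one_zpow]
  have hxbq : IsPGroup q (zpowers xb) := by
    have h : IsPGroup q ((zpowers (π x')).comap Kb.subtype) :=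
      (show IsPGroup q (zpowers (π x')) from (hπx.map π).to_le (MonoidHom.map_zpowers _ _).ge).comap_of_injective
        _ Kb.subtype_injective
    exact h.to_le (zpowers_le.2 (mem_zpowers (π x')))
  have hcentr : zpowers xb ≤ centralizer (Cfsg.fittingSubgroup Kb : Set Kb) := by
    refine Cfsg.Lib.Misc.BenderPair.fitting_le_centralizer_iff fun r hr => ?_
    haveI := Fact.mk hr
    rcases eq_or_ne r q with rfl | hrq
    · rw [hcoreq]
      intro y _
      rw [mem_centralizer_iff]
      intro z hz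
      rw [SetLike.mem_coe, mem_bot] at hz
      rw [hz, one_mul, mul_one]
    rw [zpowers_le, mem_centralizer_iff]
    intro y hy
    let L : Subgroup (N ⧸ R) := (Cfsg.pCore r Kb).map Kb.subtype
    haveI : L.Normal := inferInstance
    have hLp : IsPGroup r L := (Cfsg.Lib.Components.isPGroup_pCore r).map _
    have hLo : Odd (Nat.card L) := hKbo.of_dvd_nat (card_dvd_of_le (map_subtype_le _))
    have hordx : (orderOf (π x')).Coprime (Nat.card L) :=
      coprime_of_isPGroup (Ne.symm hrq) (hπx.map π) hLp (mem_map_of_mem π (mem_zpowers x'))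
    have ht2 : t' * t' = 1 := Subtype.ext D.tt
    refine Subtype.ext (rigid (V := L) (s := π t') (x := π x') ?_ hLo ?_ ?_ ?_ hordx ?_ ?_ _
      (mem_map_of_mem _ hy)).eq
    · rw [← map_mul, ht2, map_one]
    · exact normalizer_eq_top_iff.2 (inferInstance : L.Normal) ▸ mem_top _
    · exact normalizer_eq_top_iff.2 (inferInstance : L.Normal) ▸ mem_top _
    · rw [← map_mul, ← map_mul, ← map_inv]
      exact congrArg π (Subtype.ext hinv)
    · exact hxo.of_dvd_nat ((orderOf_map_dvd π x').trans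
        (by rw [← Subgroup.orderOf_coe x']))
    · intro y hy hyt
      obtain ⟨k, rfl⟩ := hπ y
      have hR2 : (Nat.card (zpowers t')).Coprime (Nat.card R) := by
        obtain ⟨n, hn⟩ := IsPGroup.iff_card.1 (Cfsg.Lib.Components.isPGroup_pCore (G := N) q)
        rw [Nat.card_zpowers, show Nat.card R = q ^ n from hn]
        exact ((Nat.coprime_primes Nat.prime_two hq.out).2 (Ne.symm hq2)).pow_right n |>.coprime_dvd_left
          (orderOf_dvd_of_pow_eq_one (by rw [pow_two, ht2]))
      have hAn : zpowers t' ≤ normalizer (R : Set N) := by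
        rw [normalizer_eq_top_iff.2 (inferInstance : R.Normal)]; exact le_top
      obtain ⟨d, hd, hfix⟩ := Cfsg.Lib.Coprime.exists_fixed_in_coset (k := k) hAn hR2
        (Or.inl inferInstance) fun a ha => by
          obtain ⟨n, rfl⟩ := mem_zpowers_iff.1 ha
          rw [← QuotientGroup.eq_one_iff]
          show π (k⁻¹ * t' ^ n * k * (t' ^ n)⁻¹) = 1
          rw [map_mul, map_mul, map_mul, map_inv, map_inv, map_zpow, mul_assoc (π k)⁻¹,
            ← (hyt.zpow_right n).eq]
          group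
      set l := k * d with hl
      have hπl : π l = π k := by
        rw [hl, map_mul, show π d = 1 from (QuotientGroup.eq_one_iff d).2 hd, mul_one]
      have hlt : Commute (l : G) t :=
        (congrArg Subtype.val (mem_centralizer_iff.1 hfix t' (mem_zpowers t'))).symm
      have hmem : ((l * x' * l⁻¹ * x'⁻¹ : N) : G) ∈ cr q M :=
        mul_mem ((mem_normalizer_iff.1 (cr_normalizer q M (D.mem_of_comm hlt)) x).1 hx) (inv_mem hx)
      have hc1 : π (l * x' * l⁻¹ * x'⁻¹) ∈ L := by
        rw [map_mul, map_mul, map_mul, map_inv, map_inv, hπl, mul_assoc, mul_assoc, ← mul_assoc (π x')]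
        exact mul_mem hy ((inferInstance : L.Normal).conj_mem _ (inv_mem hy) _)
      have hc2 : π (l * x' * l⁻¹ * x'⁻¹) = 1 := by
        obtain ⟨j, hj⟩ := isPGroup_cr (p := q) M ⟨_, hmem⟩
        obtain ⟨i, hi⟩ := hLp ⟨_, hc1⟩
        have hj' : (l * x' * l⁻¹ * x'⁻¹ : N) ^ q ^ j = 1 := Subtype.ext (congrArg Subtype.val hj :)
        have hi' : π (l * x' * l⁻¹ * x'⁻¹) ^ r ^ i = 1 := congrArg Subtype.val hi
        refine orderOf_eq_one_iff.1 (Nat.eq_one_of_dvd_coprimes
          (((Nat.coprime_primes hq.out hr).2 (Ne.symm hrq)).pow j i)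
          (orderOf_dvd_of_pow_eq_one (by rw [← map_pow, hj', map_one])) (orderOf_dvd_of_pow_eq_one hi'))
      rw [map_mul, map_mul, map_mul, map_inv, map_inv, hπl] at hc2
      exact mul_inv_eq_iff_eq_mul.1 (mul_inv_eq_one.1 hc2)
  have hxF : zpowers xb ≤ Cfsg.fittingSubgroup Kb :=
    hcentr.trans Cfsg.Lib.Coprime.centralizer_fitting_le
  have h1 := Cfsg.Lib.Misc.BenderPair.le_pCore_of_le_fitting hxF hxbq
  rw [hcoreq, le_bot_iff, zpowers_eq_bot] at h1
  have h2 : π x' = 1 := congrArg Subtype.val h1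
  exact ⟨x', (QuotientGroup.eq_one_iff x').1 h2, rfl⟩

end

end Data

end Cfsg.Lib.GW.MaxCent
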