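import Cfsg.Agent.FourGroupGW.Basic
import Cfsg.Agent.Classical.Misc.PSLOver

/-!
Four-group problem: no fusing proper subgroup contains the centraliser of `t`.
-/

set_option autoImplicit false
set_option linter.unusedSectionVars false
set_option linter.style.haveILetI false

namespace Cfsg.Lib.GW.MaxCent

open Subgroup

universe u

variable {G : Type u} [Group G] [Finite G]

/-- a subgroup of a non-abelian simple group other than the whole group has index at least five -/
theorem five_le_index_of_simple (hs : IsSimpleGroup G) (hna : ¬ IsMulCommutative G) {H : Subgroup G} (hH : H ≠ ⊤) :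
    5 ≤ H.index := by
  haveI := hs
  by_contra h
  have hcard : Nat.card (G ⧸ H) ≤ 4 := by rw [← Subgroup.index_eq_card]; omega
  haveI : Fintype (G ⧸ H) := Fintype.ofFinite _
  obtain ⟨ι⟩ : Nonempty ((G ⧸ H) ↪ Fin 4) :=
    Function.Embedding.nonempty_of_card_le (by rw [Fintype.card_fin, ← Nat.card_eq_fintype_card]; exact hcard)
  have hker : (MulAction.toPermHom G (G ⧸ H)).ker = ⊥ := by
    rcases IsSimpleGroup.eq_bot_or_eq_top_of_normal _ (MonoidHom.normal_ker (MulAction.toPermHom G (G ⧸ H))) with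
      h1 | h1
    · exact h1
    · exfalso
      rw [← Subgroup.normalCore_eq_ker] at h1
      exact hH (top_le_iff.1 (h1 ▸ H.normalCore_le))
  haveI := Cfsg.Lib.Classical.PSLOver.solvable_sym
  haveI : Group.IsSolvable G := Group.isSolvable_of_isSolvable_injective
    (f := (Equiv.Perm.viaEmbeddingHom ι).comp (MulAction.toPermHom G (G ⧸ H)))
    ((Equiv.Perm.viaEmbeddingHom_injective ι).comp ((MonoidHom.ker_eq_bot_iff _).1 hker))
  exact hna ⟨⟨fun a b => IsSimpleGroup.comm_iff_isSolvable.2 inferInstance a b⟩⟩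

variable (F : Frame G)

theorem no_fusing_over_C (hm : Minimal G) (hT : F.TopSpec) (hcb : F.CharBound) (hW : F.W ≠ ⊥)
    {H : Subgroup G} (hH : H ≠ ⊤) (hC : F.C ≤ H) : ¬ F.Fusing H := by
  intro hf
  obtain ⟨T, Q, h⟩ := hT H hH hf
  have ho := h.order
  rw [inf_eq_right.2 (F.W_le.trans (F.O_le.trans hC)), inf_eq_right.2 (F.O_le.trans hC)] at ho
  have h5 := five_le_index_of_simple hm.simple hm.nonab hH
  have hG := H.card_mul_index
  obtain ⟨hlow, -⟩ := hcb hW
  obtain ⟨k, hk⟩ := h.T_odd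
  have hQ := h.Q_bound
  have hwpos : (0 : ℚ) < Nat.card F.W := Nat.cast_pos.2 Nat.card_pos
  have hGpos : (0 : ℚ) < Nat.card G := Nat.cast_pos.2 Nat.card_pos
  rw [Frame.F0, lt_div_iff₀ (by positivity)] at hlow
  have hlow' : 5 * (Nat.card F.W ^ 2 * Nat.card G) < 7 * (32 * Nat.card F.O ^ 3) := by
    have : (5 * (Nat.card F.W ^ 2 * Nat.card G) : ℚ) < 7 * (32 * (Nat.card F.O : ℚ) ^ 3) := by linarith
    exact_mod_cast this
  rw [← hG] at hlow'
  have h1 : 25 * (Nat.card H * Nat.card F.W ^ 2) * T ^ 2 ≤ 5 * (Nat.card F.W ^ 2 * (Nat.card H * H.index)) * T ^ 2 := by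
    have : 5 * (Nat.card H * Nat.card F.W ^ 2) ≤ Nat.card F.W ^ 2 * (Nat.card H * H.index) := by
      calc 5 * (Nat.card H * Nat.card F.W ^ 2) ≤ H.index * (Nat.card H * Nat.card F.W ^ 2) :=
            Nat.mul_le_mul_right _ h5
        _ = _ := by ring
    calc 25 * (Nat.card H * Nat.card F.W ^ 2) * T ^ 2
        = 5 * (5 * (Nat.card H * Nat.card F.W ^ 2)) * T ^ 2 := by ring
      _ ≤ _ := Nat.mul_le_mul_right _ (Nat.mul_le_mul_left _ this)
  have hT0 : 0 < T ^ 2 := by rw [hk]; positivity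
  have h2 : 100 * (Nat.card F.O ^ 3 * Q) < 224 * (Nat.card F.O ^ 3 * T ^ 2) := by
    calc 100 * (Nat.card F.O ^ 3 * Q) = 25 * (Nat.card H * Nat.card F.W ^ 2) * T ^ 2 := by
          rw [mul_assoc (25 : ℕ), ho]; ring
      _ ≤ 5 * (Nat.card F.W ^ 2 * (Nat.card H * H.index)) * T ^ 2 := h1
      _ < 7 * (32 * Nat.card F.O ^ 3) * T ^ 2 := Nat.mul_lt_mul_of_pos_right hlow' hT0
      _ = _ := by ring
  have h3 : 100 * Q < 224 * T ^ 2 := by
    rw [mul_left_comm, mul_left_comm 224] at h2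
    exact Nat.lt_of_mul_lt_mul_left h2
  subst hk
  rw [show 4 * (2 * k + 1) - 1 = 8 * k + 3 by omega, show 2 * (2 * k + 1) - 1 = 4 * k + 1 by omega] at hQ
  nlinarith

end Cfsg.Lib.GW.MaxCent
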