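import Mathlib

/-!
Four-group problem: elementary facts on odd order subgroups with an involution acting.
-/

set_option autoImplicit false

namespace Cfsg.Lib.GW.MaxCent

open Subgroup

variable {G : Type*} [Group G]

theorem commute_of_sq {a b : G} (ha : Odd (orderOf a)) (h : Commute (a * a) b) : Commute a b := by
  obtain ⟨k, hk⟩ := ha
  have : (a * a) ^ (k + 1) = a := by
    rw [← pow_two, ← pow_mul, show 2 * (k + 1) = orderOf a + 1 by omega, pow_succ, pow_orderOf_eq_one,
      one_mul]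
  have h' := h.pow_left (k + 1)
  rwa [this] at h'

theorem eq_one_of_mul_self {a : G} (ha : Odd (orderOf a)) (h : a * a = 1) : a = 1 := by
  have h2 : orderOf a ∣ 2 := orderOf_dvd_of_pow_eq_one (by rw [pow_two, h])
  rcases (Nat.dvd_prime Nat.prime_two).1 h2 with h3 | h3
  · exact orderOf_eq_one_iff.1 h3
  · rw [h3] at ha; exact absurd ha (by decide)

/-- an element of odd order conjugated to its inverse by one of odd order is trivial -/
theorem eq_one_of_conj_inv {a b : G} (ha : Odd (orderOf a)) (hb : Odd (orderOf b))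
    (h : a * b * a⁻¹ = b⁻¹) : b = 1 := by
  have h1 : a * b⁻¹ * a⁻¹ = b := by rw [← conj_inv, h, inv_inv]
  have h2 : Commute (a * a) b := by
    show a * a * b = b * (a * a)
    calc a * a * b = a * (a * b * a⁻¹) * a⁻¹ * (a * a) := by group
      _ = b * (a * a) := by rw [h, h1]
  have h3 := (commute_of_sq ha h2).eq
  rw [h3, mul_inv_cancel_right] at h
  exact eq_one_of_mul_self hb (by
    calc b * b = b⁻¹ * b := by rw [← h]
      _ = 1 := inv_mul_cancel b)

theorem odd_orderOf_of_mem {V : Subgroup G} (hV : Odd (Nat.card V)) {v : G} (hv : v ∈ V) :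
    Odd (orderOf v) :=
  hV.of_dvd_nat (Subgroup.orderOf_dvd_natCard V hv)

theorem conj_mem_of_invol {V : Subgroup G} {s v : G} (hs : s * s = 1) (hsV : s ∈ normalizer (V : Set G))
    (hv : v ∈ V) : s * v * s ∈ V := by
  have h := (mem_normalizer_iff.1 hsV v).1 hv
  rwa [inv_eq_of_mul_eq_one_left hs] at h

theorem invol_conj_mul {s a b : G} (hs : s * s = 1) : s * (a * b) * s = s * a * s * (s * b * s) := by
  calc s * (a * b) * s = s * a * 1 * b * s := by group
    _ = s * a * (s * s) * b * s := by rw [hs]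
    _ = _ := by group

theorem invol_conj_conj {s a : G} (hs : s * s = 1) : s * (s * a * s) * s = a := by
  calc s * (s * a * s) * s = (s * s) * a * (s * s) := by group
    _ = a := by rw [hs, one_mul, mul_one]

/-- an element is the product of a fixed one and an inverted one -/
theorem exists_split {V : Subgroup G} (hV : Odd (Nat.card V)) {s v : G} (hs : s * s = 1)
    (hsV : s ∈ normalizer (V : Set G)) (hv : v ∈ V) :
    ∃ c i : G, c ∈ V ∧ i ∈ V ∧ Commute c s ∧ s * i * s = i⁻¹ ∧ v = c * i ∧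
      ∀ z : G, Commute v z → Commute s z → Commute c z ∧ Commute i z := by
  set w := (s * v * s)⁻¹ * v with hw
  have hwV : w ∈ V := mul_mem (inv_mem (conj_mem_of_invol hs hsV hv)) hv
  obtain ⟨k, hk⟩ := odd_orderOf_of_mem hV hwV
  have hsi : s⁻¹ = s := inv_eq_of_mul_eq_one_left hs
  set i := w ^ (k + 1) with hi
  have hii : i * i = w := by
    rw [hi, ← pow_add, show k + 1 + (k + 1) = orderOf w + 1 by omega, pow_succ, pow_orderOf_eq_one, one_mul]
  have hsw : s * w * s = w⁻¹ := by
    rw [hw, invol_conj_mul hs, show s * (s * v * s)⁻¹ * s = (s⁻¹ * (s * v * s) * s⁻¹)⁻¹ by group, hsi,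
      invol_conj_conj hs, mul_inv_rev, inv_inv]
  have hsinv : s * i * s = i⁻¹ := by
    have h := conj_pow (a := s) (b := w) (i := k + 1)
    rw [hsi, hsw] at h
    rw [hi, ← h, inv_pow]
  have hwi : w⁻¹ * i = i⁻¹ := by rw [← hii]; group
  refine ⟨v * i⁻¹, i, mul_mem hv (inv_mem (pow_mem hwV _)), pow_mem hwV _, ?_, hsinv, by group, ?_⟩
  · have h : s * (v * i⁻¹) * s = v * i⁻¹ := by
      rw [invol_conj_mul hs, show s * i⁻¹ * s = (s⁻¹ * i * s⁻¹)⁻¹ by group, hsi, hsinv, inv_inv]
      calc s * v * s * i = v * (w⁻¹ * i) := by rw [hw]; group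
        _ = v * i⁻¹ := by rw [hwi]
    have h2 := congrArg (fun y => y * s) h
    rw [mul_assoc (s * (v * i⁻¹)), hs, mul_one] at h2
    exact h2.symm
  · intro z hz hsz
    have hiz : Commute i z := (((hsz.mul_left hz).mul_left hsz).inv_left.mul_left hz).pow_left _
    exact ⟨hz.mul_left hiz.inv_left, hiz⟩

/-- RIGID: a coprime element inverted by an involution `s` and centralising the fixed points of `s`
centralises everything. -/
theorem rigid {V : Subgroup G} {s x : G} (hs : s * s = 1) (hV : Odd (Nat.card V))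
    (hsV : s ∈ normalizer (V : Set G)) (hxV : x ∈ normalizer (V : Set G)) (hinv : s * x * s = x⁻¹)
    (hcop : (orderOf x).Coprime (Nat.card V)) (hodd : Odd (orderOf x))
    (hfix : ∀ v ∈ V, Commute v s → Commute v x) : ∀ v ∈ V, Commute v x := by
  intro v hv
  have hsi : s⁻¹ = s := inv_eq_of_mul_eq_one_left hs
  have key : ∀ i ∈ V, s * i * s = i⁻¹ → Commute i x := by
    intro i hiV hi
    have hxi : x * i * x⁻¹ ∈ V := (mem_normalizer_iff.1 hxV i).1 hiV
    obtain ⟨c, j, hcV, hjV, hcs, hj, he, -⟩ := exists_split hV hs hsV hxi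
    have hcx : Commute c x := hfix c hcV hcs
    have hscs : s * c * s = c := by rw [← hcs.eq, mul_assoc, hs, mul_one]
    have h1 : x⁻¹ * i⁻¹ * x = c * j⁻¹ := by
      have h : s * (x * i * x⁻¹) * s = s * (c * j) * s := by rw [he]
      rw [invol_conj_mul hs, invol_conj_mul hs, hinv, hi,
        show s * x⁻¹ * s = (s⁻¹ * x * s⁻¹)⁻¹ by group, hsi, hinv, inv_inv] at h
      rw [h, invol_conj_mul hs, hscs, hj]
    have h2 : x * j * x⁻¹ = i * c := by
      have h1' : x⁻¹ * i * x = j * c⁻¹ := by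
        calc x⁻¹ * i * x = (x⁻¹ * i⁻¹ * x)⁻¹ := by group
          _ = j * c⁻¹ := by rw [h1]; group
      calc x * j * x⁻¹ = x * (j * c⁻¹) * (c * x⁻¹) := by group
        _ = x * (x⁻¹ * i * x) * (x⁻¹ * c) := by rw [h1', (hcx.inv_right).eq]
        _ = i * c := by group
    have h3 : ∀ a : G, x ^ 2 * a * (x ^ 2)⁻¹ = x * (x * a * x⁻¹) * x⁻¹ := fun a => by rw [pow_two]; group
    have hstep : x ^ 2 * i * (x ^ 2)⁻¹ = c * i * c := by
      calc x ^ 2 * i * (x ^ 2)⁻¹ = x * (c * j) * x⁻¹ := by rw [h3, he]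
        _ = (x * c * x⁻¹) * (x * j * x⁻¹) := by group
        _ = c * (i * c) := by rw [h2, ← hcx.eq, mul_inv_cancel_right]
        _ = c * i * c := by group
    have hn : ∀ n : ℕ, (x ^ 2) ^ n * i * ((x ^ 2) ^ n)⁻¹ = c ^ n * i * c ^ n := by
      intro n
      induction n with
      | zero => simp
      | succ n ih =>
        have hc2 : Commute (x ^ 2) (c ^ n) := (hcx.symm.pow_left 2).pow_right n
        calc (x ^ 2) ^ (n + 1) * i * ((x ^ 2) ^ (n + 1))⁻¹
            = x ^ 2 * ((x ^ 2) ^ n * i * ((x ^ 2) ^ n)⁻¹) * (x ^ 2)⁻¹ := by rw [pow_succ']; group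
          _ = x ^ 2 * c ^ n * i * (c ^ n * (x ^ 2)⁻¹) := by rw [ih]; group
          _ = c ^ n * (x ^ 2 * i * (x ^ 2)⁻¹) * c ^ n := by rw [hc2.eq, ← hc2.inv_left.eq]; group
          _ = c ^ (n + 1) * i * c ^ (n + 1) := by rw [hstep, pow_succ]; group
    have hN := hn (orderOf x)
    rw [← pow_mul, mul_comm 2 (orderOf x), pow_mul, pow_orderOf_eq_one, one_pow, one_mul, inv_one, mul_one]
      at hN
    have hcn : c ^ orderOf x = 1 := by
      refine eq_one_of_conj_inv (a := i⁻¹) (odd_orderOf_of_mem hV (inv_mem hiV))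
        (odd_orderOf_of_mem hV (pow_mem hcV _)) ?_
      calc i⁻¹ * c ^ orderOf x * i⁻¹⁻¹ = i⁻¹ * (c ^ orderOf x * i * c ^ orderOf x) * (c ^ orderOf x)⁻¹ := by
            group
        _ = (c ^ orderOf x)⁻¹ := by rw [← hN]; group
    have hc1 : c = 1 := orderOf_eq_one_iff.1 (Nat.eq_one_of_dvd_coprimes hcop
      (orderOf_dvd_of_pow_eq_one hcn) (Subgroup.orderOf_dvd_natCard V hcV))
    rw [hc1, one_mul, mul_one] at hstep
    refine (commute_of_sq hodd ?_).symm
    rw [← pow_two]
    show x ^ 2 * i = i * x ^ 2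
    exact mul_inv_eq_iff_eq_mul.1 hstep
  obtain ⟨c, i, hcV, hiV, hcs, hi, rfl, -⟩ := exists_split hV hs hsV hv
  exact (hfix c hcV hcs).mul_left (key i hiV hi)

/-- an involution that does not centralise an odd order subgroup normalised by a four-group `{s, u}`
inverts a non-trivial element fixed by `u` or by `s * u`. -/
theorem exists_inverted_fixed {V : Subgroup G} (hV : Odd (Nat.card V)) {s u : G} (hs : s * s = 1)
    (hu : u * u = 1) (hsu : Commute s u) (hsV : s ∈ normalizer (V : Set G))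
    (huV : u ∈ normalizer (V : Set G)) {v : G} (hv : v ∈ V) (hne : ¬ Commute v s) :
    ∃ d ∈ V, d ≠ 1 ∧ s * d * s = d⁻¹ ∧ (Commute d u ∨ Commute d (s * u)) := by
  by_contra hnot
  push Not at hnot
  obtain ⟨c, i, -, hiV, hcs, hi, rfl, -⟩ := exists_split hV hs hsV hv
  refine hne (hcs.mul_left ?_)
  have hi1 : i = 1 := by
    by_contra hi1
    obtain ⟨c', i', hc'V, hi'V, hc'u, hi', he, -⟩ := exists_split hV hu huV hiV
    have hc's : Commute c' s := by
      obtain ⟨a, b, haV, hbV, has, hb, he', hz⟩ := exists_split hV hs hsV hc'V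
      obtain ⟨-, hbu⟩ := hz u hc'u hsu
      have hb1 : b = 1 := by
        by_contra hb1
        exact (hnot b hbV hb1 hb).1 hbu
      rw [he', hb1, mul_one]
      exact has
    have hsc : s * c' * s = c' := by rw [← hc's.eq, mul_assoc, hs, mul_one]
    have huc : u * c' * u = c' := by rw [← hc'u.eq, mul_assoc, hu, mul_one]
    have hsi' : s * i' * s = c'⁻¹ * i'⁻¹ * c'⁻¹ := by
      have h := hi
      rw [he, invol_conj_mul hs, hsc, mul_inv_rev] at h
      calc s * i' * s = c'⁻¹ * (c' * (s * i' * s)) := by group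
        _ = c'⁻¹ * i'⁻¹ * c'⁻¹ := by rw [h]; group
    have h2 : s * i'⁻¹ * s = c'⁻¹ * i' * c'⁻¹ := by
      have h : u * (s * i' * s) * u = u * (c'⁻¹ * i'⁻¹ * c'⁻¹) * u := by rw [hsi']
      rw [show u * (s * i' * s) * u = (u * s) * i' * (s * u) by group,
        ← hsu.eq, show (s * u) * i' * (s * u) = s * (u * i' * (s * u)) by group, hsu.eq,
        show s * (u * i' * (u * s)) = s * (u * i' * u) * s by group, hi',
        invol_conj_mul hu, invol_conj_mul hu,
        show u * c'⁻¹ * u = (u⁻¹ * c' * u⁻¹)⁻¹ by group,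
        show u * i'⁻¹ * u = (u⁻¹ * i' * u⁻¹)⁻¹ by group, inv_eq_of_mul_eq_one_left hu, huc, hi',
        inv_inv] at h
      exact h
    have h3 : c'⁻¹ * i'⁻¹ * c'⁻¹ = c' * i'⁻¹ * c' := by
      calc c'⁻¹ * i'⁻¹ * c'⁻¹ = s * i' * s := hsi'.symm
        _ = (s⁻¹ * i'⁻¹ * s⁻¹)⁻¹ := by group
        _ = c' * i'⁻¹ * c' := by rw [inv_eq_of_mul_eq_one_left hs, h2]; group
    have hc1 : c' * c' = 1 := by
      refine eq_one_of_conj_inv (a := i'⁻¹) (odd_orderOf_of_mem hV (inv_mem hi'V))
        (odd_orderOf_of_mem hV (mul_mem hc'V hc'V)) ?_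
      calc i'⁻¹ * (c' * c') * i'⁻¹⁻¹ = c'⁻¹ * (c' * i'⁻¹ * c') * c' * i' := by group
        _ = c'⁻¹ * (c'⁻¹ * i'⁻¹ * c'⁻¹) * c' * i' := by rw [h3]
        _ = (c' * c')⁻¹ := by group
    have hc'1 := eq_one_of_mul_self (odd_orderOf_of_mem hV hc'V) hc1
    rw [hc'1, one_mul] at he
    subst he
    have hsu' : (s * u) * i * (s * u) = i := by
      calc (s * u) * i * (s * u) = s * u * i * (u * s) := by rw [hsu.eq]
        _ = s * (u * i * u) * s := by group
        _ = i := by
          rw [hi', show s * i⁻¹ * s = (s⁻¹ * i * s⁻¹)⁻¹ by group, inv_eq_of_mul_eq_one_left hs, hi,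
            inv_inv]
    refine (hnot i hiV hi1 hi).2 ?_
    have hsu2 : (s * u) * (s * u) = 1 := by
      rw [show s * u * (s * u) = s * (u * s) * u by group, ← hsu.eq,
        show s * (s * u) * u = (s * s) * (u * u) by group, hs, hu, one_mul]
    show i * (s * u) = s * u * i
    calc i * (s * u) = (s * u) * i * (s * u) * (s * u) := by rw [hsu']
      _ = s * u * i := by rw [mul_assoc, hsu2, mul_one]
  rw [hi1]
  exact Commute.one_left s

end Cfsg.Lib.GW.MaxCent
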