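import Cfsg.Agent.FourGroupGW.MaxCent.Reduce
import Cfsg.Agent.FourGroupGW.LocalZJ
import Cfsg.Agent.Components.ZJ.Closed
import Cfsg.Agent.Coprime.Sylow
import Cfsg.Agent.GenDihedral.Maximal

/-!
Four-group problem: no maximal subgroup over `C(t)` has a single prime in its Fitting subgroup, given that in fusing
subgroups the invariant core `p`-subgroups are centralised by the four-group.
-/

set_option autoImplicit false
set_option linter.unusedSectionVars false
set_option linter.style.haveILetI false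

namespace Cfsg.Lib.GW.MaxCent

open Subgroup
open Cfsg.Lib.Misc.BenderPair (cr cr_le cr_normalizer isPGroup_cr)
open Cfsg.Lib.Coprime (conjMap)
open scoped Pointwise

universe u

variable {G : Type u} [Group G] [Finite G] (F : Frame G)

/-- In fusing proper subgroups the invariant `p`-subgroups of the odd core are centralised by the four-group. -/
def CoreFixedAt (p : ℕ) : Prop :=
  ∀ H : Subgroup G, H ≠ ⊤ → F.Fusing H → ∀ P : Subgroup G, IsPGroup p P → P ≤ Core H →
    F.U ≤ normalizer (P : Set G) → P ≤ centralizer (F.U : Set G)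

/-- No normaliser of the `ZJ` of a Sylow `p`-subgroup is fusing. -/
def NoZJAt (p : ℕ) : Prop :=
  ∀ P : Sylow p G, ¬ F.Fusing (normalizer (Cfsg.centerThompsonAOf (P : Subgroup G) : Set G))

theorem exists_normalizing_conj (hm : Minimal G) {M : Subgroup G} (hU : F.U ≤ M) {g : G}
    (hUg : F.U ≤ conjMap g M) : ∃ n ∈ normalizer (F.U : Set G), conjMap n M = conjMap g M := by
  haveI : Fact (Nat.Prime 2) := ⟨Nat.prime_two⟩
  have h2 : conjMap g⁻¹ F.U ≤ M := by
    have h := Cfsg.Lib.Coprime.conjMap_mono (g := g⁻¹) hUg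
    rwa [Cfsg.Lib.Coprime.conjMap_inv_conjMap] at h
  let P : Sylow 2 M := (F.sylowU hm).subtype (by rw [F.coe_sylowU hm]; exact hU)
  have hPc : (P : Subgroup M) = F.U.subgroupOf M := by simp [P, Sylow.coe_subtype, F.coe_sylowU hm]
  let Q : Sylow 2 M := Sylow.ofCard ((conjMap g⁻¹ F.U).subgroupOf M) (by
    rw [Nat.card_congr (subgroupOfEquivOfLe h2).toEquiv, Cfsg.Lib.Coprime.card_conjMap, ← P.card_eq_multiplicity,
      hPc, Nat.card_congr (subgroupOfEquivOfLe hU).toEquiv])
  obtain ⟨m, hmPQ⟩ := MulAction.exists_smul_eq M P Q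
  have h : conjMap (m : G) F.U = conjMap g⁻¹ F.U := by
    have := Cfsg.Lib.Coprime.map_subtype_smul m P
    rw [hmPQ, Sylow.coe_ofCard, hPc, map_subgroupOf_eq_of_le h2, map_subgroupOf_eq_of_le hU] at this
    exact this.symm
  refine ⟨g * m, Cfsg.Lib.Coprime.conjMap_eq_self_iff.1 ?_, ?_⟩
  · rw [← Cfsg.Lib.Coprime.conjMap_mul, h, Cfsg.Lib.Coprime.conjMap_conjMap_inv]
  · rw [← Cfsg.Lib.Coprime.conjMap_mul, Cfsg.Lib.Coprime.conjMap_eq_self (le_normalizer m.2)]

theorem centralizer_U_le_conj (hm : Minimal G) {M : Subgroup G} (hC : F.C ≤ M) {g : G}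
    (hUg : F.U ≤ conjMap g M) : centralizer (F.U : Set G) ≤ conjMap g M := by
  obtain ⟨n, hn, he⟩ := exists_normalizing_conj F hm (F.U_le_C.trans hC) hUg
  intro c hc
  rw [← he, mem_conjMap_iff]
  have hn' : n⁻¹ ∈ normalizer (centralizer (F.U : Set G) : Set G) :=
    inv_mem (Cfsg.Lib.Misc.BenderLeads.normalizer_le_normalizer_cent _ hn)
  have h := (mem_normalizer_iff.1 hn' c).1 hc
  rw [inv_inv] at h
  exact hC (F.mem_C.2 (mem_centralizer_iff.1 h F.t F.t_mem_U).symm)

theorem not_fusing_conj (hm : Minimal G) {M : Subgroup G} (hC : F.C ≤ M) (hM : M = Core M ⊔ F.U) (g : G) :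
    ¬ F.Fusing (conjMap g M) := by
  rintro ⟨hUg, h, hh, hhn, hht⟩
  have hU : F.U ≤ M := F.U_le_C.trans hC
  obtain ⟨n, hn, he⟩ := exists_normalizing_conj F hm hU hUg
  set h' := n⁻¹ * h * n with hh'
  have hh'M : h' ∈ M := mem_conjMap_iff.1 (he ▸ hh)
  have hh'n : h' ∈ normalizer (F.U : Set G) := mul_mem (mul_mem (inv_mem hn) hhn) hn
  have hcen : h' ∈ centralizer (F.U : Set G) := by
    have hx : h' ∈ Core M ⊔ F.U := by rw [← hM]; exact hh'M
    have hcn : F.U ≤ normalizer (Core M : Set G) := hU.trans (le_normalizer_core M)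
    obtain ⟨a, ha, b, hb, e⟩ := (Cfsg.Lib.Coprime.mem_sup_of_le_normalizer' hcn).1 hx
    rw [← e] at hh'n ⊢
    have hbn : b ∈ normalizer (F.U : Set G) := by
      have := mul_mem (inv_mem (le_normalizer ha)) hh'n
      rwa [inv_mul_cancel_left] at this
    refine mul_mem (mem_centralizer_iff.2 fun x hx => F.U_comm hx ha) (mem_centralizer_iff.2 fun x hx => ?_)
    refine (commute_of_disjoint ?_ hb hx hbn (hcn hx)).eq.symm
    refine disjoint_iff.2 (Cfsg.Lib.Coprime.inf_eq_bot_of_coprime ?_)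
    exact (F.coprime_U (Frame.odd_card_core M)).symm
  have hc : h ∈ centralizer (F.U : Set G) := by
    have h1 := (mem_normalizer_iff.1 (Cfsg.Lib.Misc.BenderLeads.normalizer_le_normalizer_cent _ hn) h').1 hcen
    rwa [hh', show n * (n⁻¹ * h * n) * n⁻¹ = h by group] at h1
  rw [← mem_centralizer_iff.1 hc F.t F.t_mem_U, mul_inv_cancel_right] at hht
  exact F.t_ne_u hht

theorem ne_top_of_pgroup (F : Frame G) {p : ℕ} [Fact p.Prime] (hp : p ≠ 2) {P : Subgroup G} (hP : IsPGroup p P) : P ≠ ⊤ := by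
  rintro rfl
  obtain ⟨k, hk⟩ := hP ⟨F.t, mem_top _⟩
  have hk' : F.t ^ p ^ k = 1 := congrArg Subtype.val hk
  have h := orderOf_dvd_of_pow_eq_one hk'
  rw [F.t_order] at h
  exact hp ((Nat.prime_dvd_prime_iff_eq Nat.prime_two Fact.out).1 (Nat.prime_two.dvd_of_dvd_pow h)).symm

theorem normalizer_ne_top (F : Frame G) (hm : Minimal G) {p : ℕ} [Fact p.Prime] (hp : p ≠ 2) {P : Subgroup G}
    (hP : IsPGroup p P) (hP1 : P ≠ ⊥) : normalizer (P : Set G) ≠ ⊤ := by
  haveI := hm.simple
  intro e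
  rcases IsSimpleGroup.eq_bot_or_eq_top_of_normal P (normalizer_eq_top_iff.1 e) with h | h
  · exact hP1 h
  · exact ne_top_of_pgroup F hp hP h

theorem mem_core_of_pgroup {p : ℕ} [Fact p.Prime] (hp : p ≠ 2) {M P : Subgroup G} (hU : F.U ≤ M)
    (hM : M = Core M ⊔ F.U) (hP : IsPGroup p P) (hPM : P ≤ M) : P ≤ Core M := fun x hx =>
  mem_core_of_odd F hU hM (hPM hx) (odd_orderOf_of_mem (odd_card_of_isPGroup hp hP) hx)

/-- a moved invariant `p`-subgroup lies in an invariant Sylow subgroup of `G` -/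
theorem exists_sylow_of_moved (hm : Minimal G) (hB : F.NonFusingSpec) {p : ℕ} [Fact p.Prime] (hp : p ≠ 2)
    (hcf : CoreFixedAt F p) {P : Subgroup G} (hP : IsPGroup p P) (hPU : F.U ≤ normalizer (P : Set G))
    (hmov : ¬ P ≤ centralizer (F.U : Set G)) :
    ∃ S : Sylow p G, P ≤ (S : Subgroup G) ∧ F.U ≤ normalizer ((S : Subgroup G) : Set G) := by
  obtain ⟨V, ⟨hV, hVU, hPV⟩, hmax⟩ := WellFounded.has_min (wellFounded_gt (α := Subgroup G))
    {V | IsPGroup p V ∧ F.U ≤ normalizer (V : Set G) ∧ P ≤ V} ⟨P, hP, hPU, le_rfl⟩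
  have hVmov : ¬ V ≤ centralizer (F.U : Set G) := fun h => hmov (hPV.trans h)
  have hV1 : V ≠ ⊥ := fun e => hVmov (e ▸ bot_le)
  set N := normalizer (V : Set G)
  have hN : N ≠ ⊤ := normalizer_ne_top F hm hp hV hV1
  have hnf : ¬ F.Fusing N := by
    intro hf
    refine hVmov (hcf N hN hf V hV ?_ hVU)
    -- a normal `p`-subgroup lies in the odd core
    haveI : (V.subgroupOf N).Normal := (normal_subgroupOf_iff_le_normalizer le_normalizer).2 le_rfl
    have hle : V.subgroupOf N ≤ Cfsg.oddCore N := le_sSup ⟨inferInstance, by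
      rw [Nat.card_congr (subgroupOfEquivOfLe (le_normalizer : V ≤ N)).toEquiv]
      exact Nat.coprime_two_right.2 (odd_card_of_isPGroup hp hV)⟩
    have h := map_mono (f := N.subtype) hle
    rwa [map_subgroupOf_eq_of_le le_normalizer] at h
  have hNeq := hB N hN hVU hnf
  have hVK : V ≤ Core N := mem_core_of_pgroup F hp hVU hNeq hV le_normalizer
  have hKU : F.U ≤ normalizer (Core N : Set G) := hVU.trans (le_normalizer_core N)
  obtain ⟨T, hVT, hTU⟩ := Cfsg.Lib.Coprime.exists_invariant_sylow_ge hKU (F.coprime_U (Frame.odd_card_core N))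
    (Or.inl (by haveI := F.isPGroup_U.isNilpotent; infer_instance)) p hVK hV hVU
  set T₀ := (T : Subgroup (Core N)).map (Core N).subtype
  have hTV : T₀ = V := by
    by_contra hne
    exact hmax T₀ ⟨T.2.map _, hTU, hPV.trans hVT⟩ (lt_of_le_of_ne hVT (Ne.symm hne))
  refine ⟨⟨V, hV, fun {Q} hQ hVQ => ?_⟩, hPV, hVU⟩
  by_contra hne
  have hlt := Cfsg.Lib.GenDihedral.lt_inf_normalizer hQ (lt_of_le_of_ne hVQ (Ne.symm hne))
  have hR : Q ⊓ N ≤ Core N := mem_core_of_pgroup F hp hVU hNeq (hQ.to_le inf_le_left) inf_le_right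
  have hmem : (T : Subgroup (Core N)) ≤ (Q ⊓ N).subgroupOf (Core N) := fun x hx => by
    rw [mem_subgroupOf]
    exact hlt.le (hTV ▸ mem_map_of_mem _ hx)
  have he := T.3 ((hQ.to_le inf_le_left).comap_of_injective _ (Core N).subtype_injective) hmem
  refine hlt.not_ge fun x hx => ?_
  rw [← hTV]
  exact ⟨⟨x, hR hx⟩, he ▸ (mem_subgroupOf.2 hx : (⟨x, hR hx⟩ : Core N) ∈ (Q ⊓ N).subgroupOf (Core N)), rfl⟩

/-- The one-prime case is impossible. -/
theorem onePrime_of_coreFixed (hm : Minimal G) (hB : F.NonFusingSpec)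
    (hcf : ∀ p : ℕ, p.Prime → p ≠ 2 → NoZJAt F p → CoreFixedAt F p) : OnePrime F := by
  intro _ M hCM hM D p hpp hone
  haveI := hm.simple
  haveI := Fact.mk hpp
  obtain ⟨q, hq, v, hv, hvt⟩ := D.exists_moved
  have hqp : q = p := by
    by_contra h
    rw [hone q hq h, mem_bot] at hv
    exact hvt (hv ▸ Commute.one_left F.t)
  subst hqp
  have hp2 : q ≠ 2 := by
    rintro rfl
    rw [D.two, mem_bot] at hv
    exact hvt (hv ▸ Commute.one_left F.t)
  have hU : F.U ≤ M := F.U_le_C.trans hCM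
  -- `M = N(ZJ S)` for an invariant Sylow subgroup `S`
  haveI := D.sol
  have hcent : centralizer (Cfsg.pCore q M : Set M) ≤ Cfsg.pCore q M := by
    intro x hx
    have hxF : zpowers x ≤ centralizer (Cfsg.fittingSubgroup M : Set M) := by
      refine Cfsg.Lib.Misc.BenderPair.fitting_le_centralizer_iff fun r hr => ?_
      by_cases h : r = q
      · rw [h]; exact zpowers_le.2 hx
      · rw [(map_eq_bot_iff_of_injective _ M.subtype_injective).1 (hone r hr h), zpowers_le, mem_centralizer_iff]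
        intro y hy
        rw [SetLike.mem_coe, mem_bot] at hy
        rw [hy, one_mul, mul_one]
    have hxF' : x ∈ Cfsg.fittingSubgroup M := Cfsg.Lib.Coprime.centralizer_fitting_le (zpowers_le.1 hxF)
    have hle : Cfsg.fittingSubgroup M ≤ Cfsg.pCore q M := by
      rw [Cfsg.Lib.Components.fitting_eq_iSup_pCore]
      refine iSup_le fun r => ?_
      by_cases h : r.1 = q
      · rw [h]
      · rw [(map_eq_bot_iff_of_injective _ M.subtype_injective).1 (hone r.1 r.2 h)]
        exact bot_le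
    exact hle hxF'
  have hodd : Odd (Nat.card (centralizer (Cfsg.pCore q M : Set M))) :=
    ((odd_card_of_isPGroup hp2 (Cfsg.Lib.Components.isPGroup_pCore (G := M) q))).of_dvd_nat (card_dvd_of_le hcent)
  have hab : ∀ S : Sylow 2 M, ∀ x ∈ S, ∀ y ∈ S, x * y = y * x := by
    intro S x hx y hy
    haveI : Fact (Nat.Prime 2) := ⟨Nat.prime_two⟩
    obtain ⟨P, hP⟩ := (S.2.map M.subtype).exists_le_sylow
    obtain ⟨g, hg⟩ := MulAction.exists_smul_eq G (F.sylowU hm) P
    have hmem : ∀ z ∈ S, g⁻¹ * (z : G) * g ∈ F.U := fun z hz => by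
      have h : (z : G) ∈ (P : Subgroup G) := hP (mem_map_of_mem _ hz)
      rw [← hg] at h
      have h' : (z : G) ∈ MulAut.conj g • ((F.sylowU hm : Sylow 2 G) : Subgroup G) := h
      rw [mem_pointwise_smul_iff_inv_smul_mem, ← map_inv, F.coe_sylowU hm] at h'
      simpa using h'
    refine Subtype.ext ((MulAut.conj g⁻¹).injective ?_)
    simp only [Subgroup.coe_mul, map_mul, MulAut.conj_apply, inv_inv]
    exact F.U_comm (hmem x hx) (hmem y hy)
  have hKU : F.U ≤ normalizer (Core M : Set G) := hU.trans (le_normalizer_core M)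
  have hRK : cr q M ≤ Core M := mem_core_of_pgroup F hp2 hU hM (isPGroup_cr M) (cr_le q M)
  obtain ⟨T, hRT, hTU⟩ := Cfsg.Lib.Coprime.exists_invariant_sylow_ge hKU (F.coprime_U (Frame.odd_card_core M))
    (Or.inl (by haveI := F.isPGroup_U.isNilpotent; infer_instance)) q hRK (isPGroup_cr M)
    (hU.trans (cr_normalizer q M))
  set S := (T : Subgroup (Core M)).map (Core M).subtype with hSdef
  have hSp : IsPGroup q S := T.2.map _
  have hSM : S ≤ M := (map_subtype_le _).trans (core_le M)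
  have hS1 : S ≠ ⊥ := fun e => hvt (by
    have h := hRT hv
    rw [e, mem_bot] at h
    exact h ▸ Commute.one_left F.t)
  have hSmax : ∀ Q : Subgroup G, IsPGroup q Q → S ≤ Q → Q ≤ M → Q = S := by
    intro Q hQ hSQ hQM
    have hQK := mem_core_of_pgroup F hp2 hU hM hQ hQM
    have he := T.3 (hQ.comap_of_injective _ (Core M).subtype_injective) fun x hx => hSQ (mem_map_of_mem _ hx)
    refine le_antisymm (fun x hx => ?_) hSQ
    exact ⟨⟨x, hQK hx⟩, he ▸ (hx : (⟨x, hQK hx⟩ : Core M) ∈ Q.comap (Core M).subtype), rfl⟩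
  let SM : Sylow q M := ⟨S.subgroupOf M, hSp.comap_of_injective _ M.subtype_injective, fun {Q} hQ hle => by
    have h1 : S ≤ Q.map M.subtype := fun x hx => ⟨⟨x, hSM hx⟩, hle (mem_subgroupOf.2 hx), rfl⟩
    have h2 := hSmax _ (hQ.map _) h1 (map_subtype_le _)
    rw [← h2, subgroupOf, comap_map_eq_self_of_injective M.subtype_injective]⟩
  have htop := sup_normalizer_zj hp2 hab hodd SM
  have hc0 : Cfsg.pPrimeCore q M = ⊥ := by
    rw [eq_bot_iff]
    intro x hx
    have hdis : Disjoint (Cfsg.pPrimeCore q M) (Cfsg.pCore q M) := by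
      refine disjoint_iff.2 (Cfsg.Lib.Coprime.inf_eq_bot_of_coprime ?_)
      obtain ⟨k, hk⟩ := IsPGroup.iff_card.1 (Cfsg.Lib.Components.isPGroup_pCore (G := M) q)
      rw [hk]
      exact Nat.Coprime.pow_right k (Cfsg.Lib.Components.coprime_card_pPrimeCore (G := M) q)
    have hxc : x ∈ centralizer (Cfsg.pCore q M : Set M) := mem_centralizer_iff.2 fun y hy =>
      (Subgroup.commute_of_normal_of_disjoint _ _ inferInstance inferInstance hdis x y hx hy).eq.symm
    exact disjoint_def.1 hdis hx (hcent hxc) ▸ one_mem _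
  rw [hc0, bot_sup_eq] at htop
  set Z := Cfsg.centerThompsonAOf S with hZ
  have hZmap : (Cfsg.centerThompsonAOf (SM : Subgroup M)).map M.subtype = Z := by
    rw [Cfsg.Lib.ZJ.centerThompsonAOf_map_injOn M.subtype_injective.injOn]
    show Cfsg.centerThompsonAOf ((S.subgroupOf M).map M.subtype) = Z
    rw [map_subgroupOf_eq_of_le hSM]
  have hMZ : M ≤ normalizer (Z : Set G) := by
    rw [← hZmap]
    intro g hg
    have h := htop ▸ mem_top (⟨g, hg⟩ : M)
    refine mem_normalizer_iff.2 fun x => ⟨?_, ?_⟩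
    · rintro ⟨y, hy, rfl⟩
      exact ⟨⟨g, hg⟩ * y * ⟨g, hg⟩⁻¹, (mem_normalizer_iff.1 h y).1 hy, rfl⟩
    · rintro ⟨y, hy, e⟩
      refine ⟨⟨g, hg⟩⁻¹ * y * ⟨g, hg⟩, (mem_normalizer_iff.1 h _).2 (by simpa [mul_assoc] using hy), ?_⟩
      show g⁻¹ * (y : G) * g = x
      rw [show (y : G) = g * x * g⁻¹ from e]; group
  have hZM : Z ≤ M := hZmap ▸ map_subtype_le _
  have hNZ : normalizer (Z : Set G) = M := Cfsg.Lib.BenderSE.Crit2.normalizer_eq_of_coatom D.coatom hZM hMZ
    (Cfsg.Lib.ZJ.centerThompsonAOf_ne_bot hSp hS1)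
  have hconjZ : ∀ g : G, normalizer (Cfsg.centerThompsonAOf (conjMap g S) : Set G) = conjMap g M := fun g => by
    rw [conjMap, ← Cfsg.Lib.ZJ.centerThompsonAOf_map]
    show normalizer ((conjMap g Z : Subgroup G) : Set G) = conjMap g M
    rw [Cfsg.Lib.Coprime.normalizer_conjMap, hNZ]
  have hnS : normalizer (S : Set G) ≤ M := fun g hg => by
    have h := hconjZ g
    rw [Cfsg.Lib.Coprime.conjMap_eq_self hg, ← hZ, hNZ] at h
    have hgn : g ∈ normalizer (M : Set G) := Cfsg.Lib.Coprime.conjMap_eq_self_iff.1 h.symm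
    rwa [Cfsg.Lib.BenderSE.Crit2.normalizer_eq_of_coatom D.coatom le_rfl le_normalizer
      (fun e => D.tne (mem_bot.1 (e ▸ D.t_mem)))] at hgn
  let S₀ : Sylow q G := ⟨S, hSp, fun {Q} hQ hle => by
    by_contra hne
    have hlt := Cfsg.Lib.GenDihedral.lt_inf_normalizer hQ (lt_of_le_of_ne hle (Ne.symm hne))
    exact hlt.ne' (hSmax _ (hQ.to_le inf_le_left) hlt.le (inf_le_right.trans hnS))⟩
  have hNZJ : ∀ P : Sylow q G, ∃ g : G,
      normalizer (Cfsg.centerThompsonAOf (P : Subgroup G) : Set G) = conjMap g M := fun P => by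
    obtain ⟨g, hg⟩ := MulAction.exists_smul_eq G S₀ P
    refine ⟨g, ?_⟩
    rw [← hg, show ((g • S₀ : Sylow q G) : Subgroup G) = conjMap g S from rfl, hconjZ]
  have hcf' : CoreFixedAt F q := hcf q hpp hp2 fun P => by
    obtain ⟨g, hg⟩ := hNZJ P
    rw [hg]
    exact not_fusing_conj F hm hCM hM g
  -- invariant Sylow subgroups with a moved intersection have the same `N(ZJ)`
  have key : ∀ A B : Sylow q G, F.U ≤ normalizer ((A : Subgroup G) : Set G) →
      F.U ≤ normalizer ((B : Subgroup G) : Set G) → ¬ (A : Subgroup G) ⊓ B ≤ centralizer (F.U : Set G) →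
      normalizer (Cfsg.centerThompsonAOf (A : Subgroup G) : Set G) =
        normalizer (Cfsg.centerThompsonAOf (B : Subgroup G) : Set G) := by
    by_contra hno
    push Not at hno
    obtain ⟨A₀, B₀, hA₀, hB₀, hmov₀, hne₀⟩ := hno
    obtain ⟨E, ⟨A, B, hA, hB', rfl, hmov, hne⟩, hmax⟩ := WellFounded.has_min (wellFounded_gt (α := Subgroup G))
      {E | ∃ A B : Sylow q G, F.U ≤ normalizer ((A : Subgroup G) : Set G) ∧
        F.U ≤ normalizer ((B : Subgroup G) : Set G) ∧ E = (A : Subgroup G) ⊓ B ∧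
        ¬ E ≤ centralizer (F.U : Set G) ∧
        normalizer (Cfsg.centerThompsonAOf (A : Subgroup G) : Set G) ≠
          normalizer (Cfsg.centerThompsonAOf (B : Subgroup G) : Set G)}
      ⟨_, A₀, B₀, hA₀, hB₀, rfl, hmov₀, hne₀⟩
    set E := (A : Subgroup G) ⊓ B
    have hEp : IsPGroup q E := A.2.to_le inf_le_left
    have hEU : F.U ≤ normalizer (E : Set G) := Cfsg.Lib.Coprime.le_normalizer_inf hA hB'
    have hE1 : E ≠ ⊥ := fun e => hmov (e ▸ bot_le)
    set N := normalizer (E : Set G)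
    have hN : N ≠ ⊤ := normalizer_ne_top F hm hp2 hEp hE1
    have hnf : ¬ F.Fusing N := by
      intro hf
      refine hmov (hcf' N hN hf E hEp ?_ hEU)
      haveI : (E.subgroupOf N).Normal := (normal_subgroupOf_iff_le_normalizer le_normalizer).2 le_rfl
      have hle : E.subgroupOf N ≤ Cfsg.oddCore N := le_sSup ⟨inferInstance, by
        rw [Nat.card_congr (subgroupOfEquivOfLe (le_normalizer : E ≤ N)).toEquiv]
        exact Nat.coprime_two_right.2 (odd_card_of_isPGroup hp2 hEp)⟩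
      have h := map_mono (f := N.subtype) hle
      rwa [map_subgroupOf_eq_of_le le_normalizer] at h
    have hNeq := hB N hN hEU hnf
    have hAB : (A : Subgroup G) ≠ B := fun e => hne (by rw [e])
    have grow : ∀ X : Sylow q G, E ≤ (X : Subgroup G) → (X : Subgroup G) ≠ E →
        E < (X : Subgroup G) ⊓ N := fun X hX hXE =>
      Cfsg.Lib.GenDihedral.lt_inf_normalizer X.2 (lt_of_le_of_ne hX (Ne.symm hXE))
    have hEA : (A : Subgroup G) ≠ E := fun e => hAB (A.3 B.2 (e.le.trans inf_le_right)).symm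
    have hEB : (B : Subgroup G) ≠ E := fun e => hAB (B.3 A.2 (e.le.trans inf_le_left))
    have hKN : F.U ≤ normalizer (Core N : Set G) := hEU.trans (le_normalizer_core N)
    have ext : ∀ X : Sylow q G, F.U ≤ normalizer ((X : Subgroup G) : Set G) →
        ∃ T : Sylow q (Core N), (X : Subgroup G) ⊓ N ≤ (T : Subgroup (Core N)).map (Core N).subtype ∧
          F.U ≤ normalizer (((T : Subgroup (Core N)).map (Core N).subtype : Subgroup G) : Set G) := fun X hX =>
      Cfsg.Lib.Coprime.exists_invariant_sylow_ge hKN (F.coprime_U (Frame.odd_card_core N))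
        (Or.inl (by haveI := F.isPGroup_U.isNilpotent; infer_instance)) q
        (mem_core_of_pgroup F hp2 hEU hNeq (X.2.to_le inf_le_left) inf_le_right) (X.2.to_le inf_le_left)
        (Cfsg.Lib.Coprime.le_normalizer_inf hX (hEU.trans le_normalizer))
    obtain ⟨T1, hT1, hT1U⟩ := ext A hA
    obtain ⟨T2, hT2, hT2U⟩ := ext B hB'
    obtain ⟨c, hc, hcT⟩ := Cfsg.Lib.Coprime.invariant_sylow_conj hKN (F.coprime_U (Frame.odd_card_core N))
      (Or.inl (by haveI := F.isPGroup_U.isNilpotent; infer_instance)) q T1 T2 hT1U hT2U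
    have hT1mov : ¬ (T1 : Subgroup (Core N)).map (Core N).subtype ≤ centralizer (F.U : Set G) := fun h =>
      hmov ((le_inf inf_le_left le_normalizer).trans (hT1.trans h))
    obtain ⟨X, hTX, hXU⟩ := exists_sylow_of_moved F hm hB hp2 hcf' (T1.2.map _) hT1U hT1mov
    have same : ∀ Y Z : Sylow q G, F.U ≤ normalizer ((Y : Subgroup G) : Set G) →
        F.U ≤ normalizer ((Z : Subgroup G) : Set G) → E < (Y : Subgroup G) ⊓ Z →
        normalizer (Cfsg.centerThompsonAOf (Y : Subgroup G) : Set G) =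
          normalizer (Cfsg.centerThompsonAOf (Z : Subgroup G) : Set G) := fun Y Z hY hZ' hlt => by
      by_contra h
      exact hmax _ ⟨Y, Z, hY, hZ', rfl, fun h' => hmov (hlt.le.trans h'), h⟩ hlt
    have hAX := same A X hA hXU ((grow A inf_le_left hEA).trans_le (le_inf inf_le_left (hT1.trans hTX)))
    set X' := (c : G) • X with hX'def
    have hX' : ((X' : Sylow q G) : Subgroup G) = conjMap (c : G) X := rfl
    have hX'U : F.U ≤ normalizer ((X' : Subgroup G) : Set G) := fun a ha => by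
      rw [hX', Cfsg.Lib.Coprime.normalizer_conjMap, mem_conjMap_iff]
      rw [show (c : G)⁻¹ * a * (c : G) = a by
        rw [mul_assoc, mem_centralizer_iff.1 hc a ha, inv_mul_cancel_left]]
      exact hXU ha
    have hBX := same B X' hB' hX'U ((grow B inf_le_right hEB).trans_le (le_inf inf_le_left (hT2.trans (by
      rw [hX', ← hcT, Cfsg.Lib.Coprime.map_subtype_smul]
      exact Cfsg.Lib.Coprime.conjMap_mono hTX))))
    refine hne (hAX.trans (Eq.trans ?_ hBX.symm))
    obtain ⟨g, hg⟩ := hNZJ X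
    rw [hX', conjMap, ← Cfsg.Lib.ZJ.centerThompsonAOf_map]
    show _ = normalizer ((conjMap (c : G) (Cfsg.centerThompsonAOf (X : Subgroup G)) : Subgroup G) : Set G)
    rw [Cfsg.Lib.Coprime.normalizer_conjMap, hg]
    symm
    refine Cfsg.Lib.Coprime.conjMap_eq_self (le_normalizer (centralizer_U_le_conj F hm hCM ?_ hc))
    rw [← hg]
    intro a ha
    have hn := hXU ha
    rw [← Cfsg.Lib.Coprime.conjMap_eq_self_iff] at hn ⊢
    show Subgroup.map _ _ = _
    rw [Cfsg.Lib.ZJ.centerThompsonAOf_map]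
    show Cfsg.centerThompsonAOf (conjMap a (X : Subgroup G)) = _
    rw [hn]
  -- a moved element of both cores
  obtain ⟨d, hdR, hd1, hdt, hdu⟩ := exists_inverted_fixed (odd_card_of_isPGroup hp2 (isPGroup_cr M))
    F.t_sq F.u_sq F.comm (cr_normalizer q M D.t_mem) (cr_normalizer q M D.u_mem) hv hvt
  have finish : ∀ (u' τ : G) (D' : Data M F.t u' τ), τ ∈ normalizer (F.U : Set G) → Commute d u' → False := by
    intro u' τ D' hτ hdu'
    have hd2 := D'.mem_cr_two hdR hdt hdu'
    rw [cr_conjMap] at hd2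
    set S2 := τ • S₀ with hS2def
    have hS2 : ((S2 : Sylow q G) : Subgroup G) = conjMap τ S := rfl
    have hS2U : F.U ≤ normalizer ((S2 : Subgroup G) : Set G) := fun a ha => by
      rw [hS2, Cfsg.Lib.Coprime.normalizer_conjMap, mem_conjMap_iff]
      refine hTU ?_
      have := (mem_normalizer_iff.1 (inv_mem hτ) a).1 ha
      rwa [inv_inv] at this
    have he := key S₀ S2 hTU hS2U fun h => hd1 (by
      have h1 : d ∈ centralizer (F.U : Set G) := h ⟨hRT hdR, by
        rw [SetLike.mem_coe, hS2]; exact Cfsg.Lib.Coprime.conjMap_mono hRT hd2⟩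
      rw [mem_centralizer_iff.1 h1 F.t F.t_mem_U, mul_assoc, F.t_sq, mul_one] at hdt
      refine eq_one_of_mul_self (odd_orderOf_of_mem (odd_card_of_isPGroup hp2 (isPGroup_cr M)) hdR) ?_
      calc d * d = d⁻¹ * d := by rw [← hdt]
        _ = 1 := inv_mul_cancel d)
    rw [hS2, hconjZ, show ((S₀ : Sylow q G) : Subgroup G) = S from rfl, ← hZ, hNZ] at he
    have hτM : τ ∈ normalizer (M : Set G) := Cfsg.Lib.Coprime.conjMap_eq_self_iff.1 he.symm
    rw [Cfsg.Lib.BenderSE.Crit2.normalizer_eq_of_coatom D.coatom le_rfl le_normalizer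
      (fun e => D.tne (mem_bot.1 (e ▸ D.t_mem)))] at hτM
    exact D'.out hτM
  rcases hdu with h | h
  · exact finish F.u F.σ D F.σ_mem h
  · exact finish (F.t * F.u) F.σ⁻¹ D.swap (inv_mem F.σ_mem) h

end Cfsg.Lib.GW.MaxCent
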